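import Cfsg.Agent.ThreeTrans.OrthCohom

/-!
# A permutation of labelled norm-one vectors preserving orthogonality is an isometry
-/

set_option autoImplicit false

namespace Cfsg.Agent.M22Outer

open QuadraticMap Cfsg.Agent.Classical.Quad Cfsg.Agent.ThreeTrans.OrthCohom

theorem zmod2_eq_of_iff {a b : ZMod 2} (h : a = 0 ↔ b = 0) : a = b := by
  rcases ThreeTrans.OrthTwo.z2 a with rfl | rfl
  · exact (h.1 rfl).symm
  · rcases ThreeTrans.OrthTwo.z2 b with rfl | rfl
    · exact absurd (h.2 rfl) one_ne_zero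
    · rfl

variable {ι : Type} [Fintype ι] [DecidableEq ι] {Q : QuadraticForm (ZMod 2) (ι → ZMod 2)}

theorem exists_isometry (hQ : (polarBilin Q).Nondegenerate) {P : Type*} (S : P → Prop)
    (vec : P → ι → ZMod 2) (com : P → P → Prop) (hnorm : ∀ p, S p → Q (vec p) = 1)
    (hcom : ∀ p q, S p → S q → (com p q ↔ polar Q (vec p) (vec q) = 0))
    (e : ι → P) (he : ∀ k, S (e k))
    (hspan : ∀ i, Pi.single i (1 : ZMod 2) ∈ Submodule.span (ZMod 2) (Set.range (vec ∘ e)))
    (π : P → P) (hπS : ∀ p, S p → S (π p)) (hπ : ∀ p q, S p → S q → (com (π p) (π q) ↔ com p q)) :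
    ∃ f : oG Q, ∀ p, S p → f.1 (vec p) = vec (π p) := by
  classical
  have htop : ⊤ ≤ Submodule.span (ZMod 2) (Set.range (vec ∘ e)) := by
    rw [← (Pi.basisFun (ZMod 2) ι).span_eq, Submodule.span_le]
    rintro _ ⟨i, rfl⟩
    rw [Pi.basisFun_apply]
    exact hspan i
  let b := basisOfTopLeSpanOfCardEqFinrank (vec ∘ e) htop (Module.finrank_fintype_fun_eq_card (ZMod 2)).symm
  have hb : ∀ k, b k = vec (e k) := fun k =>
    congrFun (coe_basisOfTopLeSpanOfCardEqFinrank _ _ _) k
  let f0 : (ι → ZMod 2) →ₗ[ZMod 2] (ι → ZMod 2) := b.constr ℕ fun k => vec (π (e k))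
  have hf0 : ∀ k, f0 (b k) = vec (π (e k)) := fun k => b.constr_basis ℕ _ k
  have hkey : ∀ p q, S p → S q →
      polar Q (vec (π p)) (vec (π q)) = polar Q (vec p) (vec q) := fun p q hp hq =>
    zmod2_eq_of_iff (by rw [← hcom _ _ (hπS p hp) (hπS q hq), ← hcom p q hp hq, hπ p q hp hq])
  have hpol : ∀ x y, polar Q (f0 x) (f0 y) = polar Q x y := by
    have h : (polarBilin Q).compl₁₂ f0 f0 = polarBilin Q := by
      refine b.ext fun i => b.ext fun j => ?_
      show polar Q (f0 (b i)) (f0 (b j)) = polar Q (b i) (b j)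
      rw [hf0, hf0, hb, hb]
      exact hkey _ _ (he i) (he j)
    exact fun x y => LinearMap.congr_fun (LinearMap.congr_fun h x) y
  have hQf : ∀ x, Q (f0 x) = Q x := by
    intro x
    have hx := b.mem_span x
    induction hx using Submodule.span_induction with
    | mem x hx =>
      obtain ⟨k, rfl⟩ := hx
      rw [hf0, hb, hnorm _ (hπS _ (he k)), hnorm _ (he k)]
    | zero => rw [map_zero]
    | add u v _ _ hu hv => rw [map_add, map_add', map_add', hu, hv, hpol]
    | smul a u _ hu => rw [map_smul, map_smul', map_smul', hu]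
  have hinj : Function.Injective f0 := by
    rw [injective_iff_map_eq_zero]
    intro x hx
    refine hQ.1 x fun y => ?_
    show polar Q x y = 0
    rw [← hpol, hx, polar_zero_left]
  have hsurj : Function.Surjective f0 := Finite.injective_iff_surjective.1 hinj
  refine ⟨⟨LinearEquiv.ofBijective f0 ⟨hinj, hsurj⟩, hQf⟩, fun p hp => ?_⟩
  show f0 (vec p) = vec (π p)
  refine sub_eq_zero.1 (hQ.1 _ fun y => ?_)
  obtain ⟨z, rfl⟩ := hsurj y
  show polar Q (f0 (vec p) - vec (π p)) (f0 z) = 0
  rw [polar_sub_left, sub_eq_zero]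
  have h : (polarBilin Q (f0 (vec p))).comp f0 = (polarBilin Q (vec (π p))).comp f0 := by
    refine b.ext fun k => ?_
    show polar Q (f0 (vec p)) (f0 (b k)) = polar Q (vec (π p)) (f0 (b k))
    rw [hpol, hf0, hb, hkey p (e k) hp (he k)]
  exact LinearMap.congr_fun h z

/-- A sum of listed vectors lies in the span. -/
theorem mem_span_list (l : List (ι → ZMod 2)) (W : Set (ι → ZMod 2)) (h : ∀ v ∈ l, v ∈ W) :
    l.sum ∈ Submodule.span (ZMod 2) W := by
  induction l with
  | nil => exact Submodule.zero_mem _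
  | cons a l ih =>
    rw [List.sum_cons]
    exact Submodule.add_mem _ (Submodule.subset_span (h a List.mem_cons_self))
      (ih fun v hv => h v (List.mem_cons_of_mem _ hv))

end Cfsg.Agent.M22Outer
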