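import Cfsg.Agent.M22Outer.Check
import Cfsg.Agent.M22Outer.Lab
import Cfsg.Agent.M22O8.Six
import Cfsg.Agent.M22PairAut.Concrete

/-!
# The fixed group of the outer involution is the group of the three classes
-/

set_option autoImplicit false

namespace Cfsg.Agent.M22Outer

open Cfsg.Agent.CosetCert Cfsg.Agent.CosetCert.Fi22U62 Cfsg.Agent.Fi22Out Cfsg.Agent.M22Local
open Cfsg.Agent.Fi22Trans (G t)
open Cfsg.Agent.M22PairAut (bet sgp)
open Cfsg.Agent.M22O8 hiding W
open QuadraticMap Cfsg.Agent.Classical.Quad Cfsg.Agent.ThreeTrans.OrthCohom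

/-- An automorphism permuting the points by `bet`. -/
def IsBet (β : MulAut G) : Prop := ∀ c, c < 3510 → β (T c) = T (bet c)

variable (A : Act)
include A

theorem bet_lt (c : Nat) : bet c < 3510 := img_lt A _ (by norm_num)

omit A in
theorem bet_lp {β : MulAut G} (hβ : IsBet β) :
    ∀ w : List Nat, (∀ q ∈ w, q < 3510) → β (lp w) = lp (w.map bet)
  | [], _ => by rw [lp_nil, map_one, List.map_nil, lp_nil]
  | q :: w, h => by
    rw [lp_cons, map_mul, hβ q (h q List.mem_cons_self),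
      bet_lp hβ w fun r hr => h r (List.mem_cons_of_mem _ hr), List.map_cons, lp_cons]

omit A in
theorem bet_sq {β : MulAut G} (hβ : IsBet β) : β * β = 1 := by
  refine hom_ext fun x hx => ?_
  have hb : ∀ y, y < 9 → bet (sgp y) = gp y ∧ sgp y < 3510 := fun y hy => by
    have h := (allFrom_iff _ _ _).1 bet_invol y (Nat.zero_le _) (by omega)
    rw [Bool.and_eq_true] at h
    exact ⟨Nat.eq_of_beq_eq_true h.1, Nat.ble_eq.mp h.2⟩
  have hbg : bet (gp x) = sgp x := by
    have h : allFrom (fun y => Nat.beq (bet (gp y)) (sgp y)) 0 9 = true := by decide +kernel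
    exact Nat.eq_of_beq_eq_true ((allFrom_iff _ _ _).1 h x (Nat.zero_le _) (by omega))
  rw [MulAut.mul_apply, MulAut.one_apply, (gen_T hx).2, hβ _ (gen_T hx).1, hbg,
    hβ _ (hb x hx).2, (hb x hx).1]

omit A in
theorem bet_pv {e : Nat × Nat} (he : e ∈ pv) : bet e.1 = e.1 := by
  have h : (pv.all fun e => Nat.beq (bet e.1) e.1) = true := by decide +kernel
  exact Nat.eq_of_beq_eq_true (List.all_eq_true.1 h e he)

theorem bet_outer {Γ : Type*} [Group Γ] [Finite Γ] {D : Set Γ} (C : Ctx Γ D) {β : MulAut G}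
    (hβ : IsBet β) : β ∉ (MulAut.conj : G →* MulAut G).range := by
  rintro ⟨u, rfl⟩
  have hu : u = 1 := cen_eq_one A C fun e he => by
    have h := hβ e.1 (pv_lt he).1
    rw [bet_pv he, MulAut.conj_apply] at h
    exact mul_inv_eq_iff_eq_mul.1 h
  have h := hβ 43 (by norm_num)
  have hab := bet_ab
  simp only [Bool.and_eq_true] at hab
  rw [hu, map_one, MulAut.one_apply, Nat.eq_of_beq_eq_true hab.1.2] at h
  exact absurd (T_inj' A (by norm_num) (by norm_num) h) (by norm_num)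

theorem uc_of_fixed {β : MulAut G} (hβ : IsBet β) {q : Nat} (hq : q < 3510) (h : β (T q) = T q) :
    ∃ u ∈ uc, u.1 = q := by
  have h1 : fix0P q = true := fix0_cover hq
  rw [hβ q hq] at h
  rw [fix0P, T_inj' A (bet_lt A q) hq h, Nat.beq_refl, Bool.not_true, Bool.false_or, inU,
    List.any_eq_true] at h1
  obtain ⟨u, hu, huq⟩ := h1
  exact ⟨u, hu, Nat.eq_of_beq_eq_true huq⟩

theorem uc_fix {β : MulAut G} (hβ : IsBet β) {u : Nat × Nat} (hu : u ∈ uc) : β (T u.1) = T u.1 := by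
  rw [hβ _ (uc_lt hu), Nat.eq_of_beq_eq_true (List.all_eq_true.1 uc_fixed u hu)]

/-- Commuting members of two points of the first class have orthogonal vectors. -/
theorem fix_iff_polar {p q : Nat × Nat} (hp : p ∈ pv) (hq : q ∈ pv) :
    fix p.1 q.1 = true ↔ polar (qP 4) (vv p.2) (vv q.2) = 0 := by
  obtain ⟨hz, hP⟩ := pairs_mem A hp
  obtain ⟨r, hr, h1, h2⟩ := rel_pairs A hP q hq
  have hQ1 : qP 4 (vv p.2) = 1 := by rw [qP_coe]; exact pv_norm p hp
  rw [rO_apply, hQ1, div_one] at h2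
  rw [fixN A (pv_lt hp).1 (pv_lt hq).1]
  have hne : vv p.2 ≠ 0 := fun h0 => by rw [h0, QuadraticMap.map_zero] at hQ1; exact zero_ne_one hQ1
  constructor
  · intro h
    have hrq : q = r := pv_fst hq hr (T_inj' A (pv_lt hq).1 (pv_lt hr).1 (by
      rw [← h1]; show T q.1 = T p.1 * T q.1 * (T p.1)⁻¹; rw [h.eq, mul_inv_cancel_right]))
    rw [← hrq, sub_eq_self, smul_eq_zero] at h2
    rw [polar_comm]
    exact h2.resolve_right hne
  · intro h
    rw [polar_comm, h, zero_smul, sub_zero] at h2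
    have hrq := pv_snd hq hr h2
    rw [← hrq] at h1
    exact mul_inv_eq_iff_eq_mul.1 h1

omit A in
theorem e8_span (i : Fin 4 ⊕ Fin 4) : Pi.single i (1 : ZMod 2) ∈ Submodule.span (ZMod 2)
    (Set.range fun k : Fin 4 ⊕ Fin 4 => vv (e8.getD (idxP 4 k) (0, 0)).2) := by
  have h : ∀ i, (((sub8.getD (idxP 4 i) []).map fun k => vv (e8.getD k (0, 0)).2).sum =
      Pi.single i (1 : ZMod 2)) ∧ (sub8.getD (idxP 4 i) []).all (fun k => Nat.blt k 8) = true := by
    decide +kernel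
  rw [← (h i).1]
  refine mem_span_list _ _ fun v hv => ?_
  obtain ⟨k, hk, rfl⟩ := List.mem_map.1 hv
  have hk8 : k < 8 := Nat.ble_eq.mp (List.all_eq_true.1 (h i).2 k hk)
  have hk' : ∀ k : Fin 8, ∃ j, idxP 4 j = k.val := by decide +kernel
  obtain ⟨j, hj⟩ := hk' ⟨k, hk8⟩
  exact ⟨j, by simp only [hj]⟩

omit A in
theorem e8_getD : ∀ k : Fin 4 ⊕ Fin 4, e8.getD (idxP 4 k) (0, 0) ∈ e8 := by decide +kernel

variable {Γ : Type*} [Group Γ] [Finite Γ] {D : Set Γ} (C : Ctx Γ D)
include C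

/-- An element fixed by the automorphism keeping the point 0 in the first class lies in the orthogonal group. -/
theorem mem_W_of_class {β : MulAut G} (hβ : IsBet β) {g : G} (hg : β g = g)
    (h0 : ∃ p ∈ pv, g * T 0 * g⁻¹ = T p.1) : g ∈ M22O8.W := by
  classical
  have himg : ∀ u : Nat × Nat, ∃ r : Nat × Nat, u ∈ uc → r ∈ uc ∧ g * T u.1 * g⁻¹ = T r.1 := by
    intro u
    by_cases hu : u ∈ uc
    · obtain ⟨r, hr, hrg⟩ := exists_pt A g (uc_lt hu)
      obtain ⟨v, hv, rfl⟩ := uc_of_fixed A hβ hr (by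
        rw [← hrg, map_mul, map_mul, map_inv, hg, uc_fix A hβ hu])
      exact ⟨v, fun _ => ⟨hv, hrg⟩⟩
    · exact ⟨u, fun h => absurd h hu⟩
  choose σ hσ using himg
  have hsep := List.all_eq_true.1 class_sep
  have hlk := class_link
  simp only [Bool.and_eq_true, List.all_eq_true] at hlk
  have hpu : ∀ p ∈ pv, ∃ u ∈ uc, u.1 = p.1 := fun p hp =>
    uc_of_fixed A hβ (pv_lt hp).1 (by rw [hβ _ (pv_lt hp).1, bet_pv hp])
  have hgo : ∀ p q : Nat × Nat, p ∈ pv → q ∈ pv → fix p.1 q.1 = true →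
      (∃ r ∈ pv, g * T p.1 * g⁻¹ = T r.1) → ∃ r ∈ pv, g * T q.1 * g⁻¹ = T r.1 := by
    intro p q hp hq hpq ⟨r, hr, hrg⟩
    obtain ⟨u, hu, huq⟩ := hpu q hq
    obtain ⟨hs, hsg⟩ := hσ u hu
    rw [huq] at hsg
    have hc : fix r.1 (σ u).1 = true := by
      rw [fixN A (pv_lt hr).1 (uc_lt hs), ← hrg, ← hsg, ← MulAut.conj_apply, ← MulAut.conj_apply,
        commute_conj_iff]
      exact (fixN A (pv_lt hp).1 (pv_lt hq).1).1 hpq
    have h := List.all_eq_true.1 (hsep r hr) (σ u) hs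
    rw [hc, Bool.not_true, Bool.or_false] at h
    have h2 := hlk.2 (σ u) hs
    rw [h, Bool.not_true, Bool.false_or, List.any_eq_true] at h2
    obtain ⟨p', hp', hpe⟩ := h2
    exact ⟨p', hp', by rw [hsg, Nat.eq_of_beq_eq_true hpe]⟩
  -- extend to an isometry
  have hW : ∀ p ∈ pv, ∃ r ∈ pv, g * T p.1 * g⁻¹ = T r.1 := by
    intro p hp
    obtain ⟨q, hq, hqe⟩ := List.any_eq_true.1 (hlk.1 p hp)
    rw [Bool.and_eq_true] at hqe
    exact hgo q p hq hp hqe.2 (hgo (0, 17) q (e8_mem zero_e8) hq hqe.1 h0)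
  let π : Nat × Nat → Nat × Nat := fun p =>
    if h : ∃ r ∈ pv, g * T p.1 * g⁻¹ = T r.1 then h.choose else p
  have hπ : ∀ p ∈ pv, π p ∈ pv ∧ g * T p.1 * g⁻¹ = T (π p).1 := fun p hp => by
    simp only [π, dif_pos (hW p hp)]
    exact (hW p hp).choose_spec
  obtain ⟨f, hf⟩ := exists_isometry nondegP4 (· ∈ pv) (fun p => vv p.2)
    (fun p q => fix p.1 q.1 = true) (fun p hp => by rw [qP_coe]; exact pv_norm p hp)
    (fun p q hp hq => fix_iff_polar A hp hq) (fun k => e8.getD (idxP 4 k) (0, 0))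
    (fun k => e8_mem (e8_getD k)) e8_span π (fun p hp => (hπ p hp).1) fun p q hp hq => by
      rw [fixN A (pv_lt (hπ p hp).1).1 (pv_lt (hπ q hq).1).1, fixN A (pv_lt hp).1 (pv_lt hq).1,
        ← (hπ p hp).2, ← (hπ q hq).2, ← MulAut.conj_apply, ← MulAut.conj_apply, commute_conj_iff]
  obtain ⟨x, hx⟩ := snd_surj A f
  have h1 : x⁻¹ * g = 1 := cen_eq_one A C fun p hp => by
    obtain ⟨r, hr, h2, h3⟩ := rel_pairs A hx p hp
    rw [hf p hp] at h3
    rw [← pv_snd (hπ p hp).1 hr h3, ← (hπ p hp).2] at h2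
    have h4 : x * T p.1 * x⁻¹ = g * T p.1 * g⁻¹ := h2
    refine mul_inv_eq_iff_eq_mul.1 ?_
    calc x⁻¹ * g * T p.1 * (x⁻¹ * g)⁻¹ = x⁻¹ * (g * T p.1 * g⁻¹) * x := by group
      _ = T p.1 := by rw [← h4]; group
  rw [inv_mul_eq_one] at h1
  exact h1 ▸ fst_mem hx

/-- The fixed elements are those of the group of the three classes. -/
theorem fixed_iff {β : MulAut G} (hβ : IsBet β) (g : G) : β g = g ↔ g ∈ O8S3 := by
  refine ⟨fun hg => ?_, fun hg => ?_⟩
  · have hd := dihedral_ok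
    simp only [Bool.and_eq_true] at hd
    have h00 := hasPair_iff.1 hd.1.2
    obtain ⟨r, hr, hrg⟩ := exists_pt A g (show (0 : Nat) < 3510 by norm_num)
    obtain ⟨v, hv, rfl⟩ := uc_of_fixed A hβ hr (by
      rw [← hrg, map_mul, map_mul, map_inv, hg, uc_fix A hβ h00])
    have hv3 : ∀ v ∈ uc, v.2 < 3 := by decide +kernel
    -- move the class to the first
    have hmove : ∃ y ∈ O8S3, β y = y ∧ ∃ p ∈ pv, (y * g) * T 0 * (y * g)⁻¹ = T p.1 := by
      have h09 : 0 ∈ nine := List.mem_append_left _ (List.mem_map.2 ⟨_, zero_e8, rfl⟩)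
      have hb9 : b1 ∈ nine := List.mem_append_right _ (List.mem_singleton.2 rfl)
      have hyn : ∀ w : List Nat, (∀ q ∈ w, q ∈ nine) → lp w ∈ O8S3 ∧ β (lp w) = lp w := by
        intro w hw
        induction w with
        | nil => rw [lp_nil]; exact ⟨one_mem _, map_one β⟩
        | cons q w ih =>
          obtain ⟨h1, h2⟩ := ih fun z hz => hw z (List.mem_cons_of_mem _ hz)
          obtain ⟨hq, hqu⟩ := nine_uc q (hw q List.mem_cons_self)
          obtain ⟨u, hu, huq⟩ := List.any_eq_true.1 hqu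
          obtain rfl := Nat.eq_of_beq_eq_true huq
          rw [lp_cons, map_mul, h2, uc_fix A hβ hu]
          exact ⟨mul_mem (mem_uc hqu) h1, rfl⟩
      have hsig : ∀ c : Fin 3, ∃ w ∈ [[], [b1], [b1, 0], [0], [0, b1]],
          List.foldr sig c.val w = 0 := by decide +kernel
      obtain ⟨w, hw, hw0⟩ := hsig ⟨v.2, hv3 v hv⟩
      have hwn : ∀ q ∈ w, q ∈ nine := by
        simp only [List.mem_cons, List.not_mem_nil, or_false] at hw
        rcases hw with rfl | rfl | rfl | rfl | rfl <;> simp [h09, hb9]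
      have hs : ∀ w : List Nat, (∀ q ∈ w, q ∈ nine) → Sends (lp w * g) 0 (List.foldr sig v.2 w) := by
        intro w hw
        induction w with
        | nil => rw [lp_nil, one_mul]; exact ⟨v, hv, hrg, rfl⟩
        | cons q w ih =>
          rw [lp_cons, mul_assoc]
          exact sends_mul A (hw q List.mem_cons_self) (ih fun z hz => hw z (List.mem_cons_of_mem _ hz))
      obtain ⟨r, hr, h1, h2⟩ := hs w hwn
      rw [show List.foldr sig v.2 w = 0 from hw0] at h2
      have hlk := class_link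
      simp only [Bool.and_eq_true, List.all_eq_true] at hlk
      have h3 := hlk.2 r hr
      rw [h2, Nat.beq_refl, Bool.not_true, Bool.false_or, List.any_eq_true] at h3
      obtain ⟨p, hp, hpe⟩ := h3
      exact ⟨lp w, (hyn w hwn).1, (hyn w hwn).2, p, hp, by rw [Nat.eq_of_beq_eq_true hpe]; exact h1⟩
    obtain ⟨y, hy, hyβ, hp⟩ := hmove
    have h := W_le A (mem_W_of_class A C hβ (g := y * g) (by rw [map_mul, hyβ, hg]) hp)
    simpa using mul_mem (inv_mem hy) h
  · induction hg using Subgroup.closure_induction with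
    | mem x hx => obtain ⟨u, hu, rfl⟩ := hx; exact uc_fix A hβ hu
    | one => exact map_one β
    | mul x y _ _ hx hy => rw [map_mul, hx, hy]
    | inv x _ hx => rw [map_inv, hx]

end Cfsg.Agent.M22Outer
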