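import Cfsg.Agent.M22Outer.Check.Group
import Cfsg.Agent.M22Outer.Check.Lower
import Cfsg.Agent.M22Outer.Check.LevelA
import Cfsg.Agent.M22Outer.Check.LevelB
import Cfsg.Agent.M22Outer.Check.LevelC
import Cfsg.Agent.M22Outer.Check.LevelD
import Cfsg.Agent.M22Outer.Check.Fix0
import Cfsg.Agent.M22Outer.Check.Fix1
import Cfsg.Agent.M22Outer.Check.Fix2
import Cfsg.Agent.M22Outer.Check.Act2
import Cfsg.Agent.M22Outer.Check.Sep
import Cfsg.Agent.M22Outer.Check.Cover00
import Cfsg.Agent.M22Outer.Check.Cover01
import Cfsg.Agent.M22Outer.Check.Cover10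
import Cfsg.Agent.M22Outer.Check.Cover11
import Cfsg.Agent.M22Outer.Check.Cover20
import Cfsg.Agent.M22Outer.Check.Cover21

/-!
# Finite checks for the outer involutions of a group of type M(22)
-/

set_option autoImplicit false

namespace Cfsg.Agent.M22Outer

open Cfsg.Agent.CosetCert

theorem split3510 {p : Nat → Bool} (h : ∀ k, k < 10 → allFrom p (351 * k) 351 = true) {q : Nat}
    (hq : q < 3510) : p q = true :=
  (allFrom_iff p _ 351).1 (h (q / 351) (by omega)) q (by omega) (by omega)

theorem fix0_cover {q : Nat} (hq : q < 3510) : fix0P q = true :=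
  split3510 (fun i hi => match i, hi with
    | 0, _ => fix0_cover00
    | 1, _ => fix0_cover01
    | 2, _ => fix0_cover02
    | 3, _ => fix0_cover03
    | 4, _ => fix0_cover04
    | 5, _ => fix0_cover10
    | 6, _ => fix0_cover11
    | 7, _ => fix0_cover12
    | 8, _ => fix0_cover13
    | 9, _ => fix0_cover14
    | n + 10, h => absurd h (by omega)) hq

theorem fix1_cover {q : Nat} (hq : q < 3510) : fix1P q = true :=
  split3510 (fun i hi => match i, hi with
    | 0, _ => fix1_cover00
    | 1, _ => fix1_cover01
    | 2, _ => fix1_cover02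
    | 3, _ => fix1_cover03
    | 4, _ => fix1_cover04
    | 5, _ => fix1_cover10
    | 6, _ => fix1_cover11
    | 7, _ => fix1_cover12
    | 8, _ => fix1_cover13
    | 9, _ => fix1_cover14
    | n + 10, h => absurd h (by omega)) hq

theorem fix2_cover {q : Nat} (hq : q < 3510) : fix2P q = true :=
  split3510 (fun i hi => match i, hi with
    | 0, _ => fix2_cover00
    | 1, _ => fix2_cover01
    | 2, _ => fix2_cover02
    | 3, _ => fix2_cover03
    | 4, _ => fix2_cover04
    | 5, _ => fix2_cover10
    | 6, _ => fix2_cover11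
    | 7, _ => fix2_cover12
    | 8, _ => fix2_cover13
    | 9, _ => fix2_cover14
    | n + 10, h => absurd h (by omega)) hq

end Cfsg.Agent.M22Outer
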