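import Cfsg.Agent.M22Outer.Beta

/-!
# Every outer involution is conjugate to one of three
-/

set_option autoImplicit false

namespace Cfsg.Agent.M22Outer

open Cfsg.Agent.CosetCert Cfsg.Agent.CosetCert.Fi22U62 Cfsg.Agent.Fi22Out Cfsg.Agent.M22Local
open Cfsg.Agent.Fi22Trans (G t)
open Cfsg.Agent.M22PairAut (bet sgp)
open Cfsg.Agent.M22O8 (Ctx cen_eq_one img_lt)

/-- An element of the 2-group. -/
noncomputable def xel (l : List Nat) : G := lp (xw l)

theorem xel_nil : xel [] = 1 := lp_nil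

theorem xel_append (a b : List Nat) : xel (a ++ b) = xel a * xel b := by
  rw [xel, xel, xel, xw, List.flatMap_append, lp_append]; rfl

theorem xel_cons (j : Nat) (l : List Nat) : xel (j :: l) = xel [j] * xel l := xel_append [j] l

/-- The terms of the series. -/
noncomputable def Kg (i : Nat) : Subgroup G :=
  Subgroup.closure {x | ∃ j, i ≤ j ∧ j < 17 ∧ x = xel [j]}

theorem Kg_anti {i j : Nat} (h : i ≤ j) : Kg j ≤ Kg i :=
  Subgroup.closure_mono fun _ ⟨k, hk, hk', e⟩ => ⟨k, h.trans hk, hk', e⟩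

theorem gen_mem {i j : Nat} (h : i ≤ j) (h' : j < 17) : xel [j] ∈ Kg i :=
  Subgroup.subset_closure ⟨j, h, h', rfl⟩

theorem xel_mem {i : Nat} : ∀ l : List Nat, (∀ s ∈ l, i ≤ s ∧ s < 17) → xel l ∈ Kg i
  | [], _ => by rw [xel_nil]; exact one_mem _
  | j :: l, h => by
    rw [xel_cons]
    exact mul_mem (gen_mem (h j List.mem_cons_self).1 (h j List.mem_cons_self).2)
      (xel_mem l fun s hs => h s (List.mem_cons_of_mem _ hs))

theorem inb_mem {l : Nat} {z : List Nat} (h : inb l z = true) : xel z ∈ Kg (l + 1) :=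
  xel_mem z fun s hs => by
    have h1 := List.all_eq_true.1 h s hs
    rw [Bool.and_eq_true] at h1
    exact ⟨Nat.ble_eq.mp h1.1, Nat.ble_eq.mp h1.2⟩

theorem Kg_last : Kg 17 = ⊥ := by
  refine eq_bot_iff.2 ((Subgroup.closure_le _).2 ?_)
  rintro x ⟨j, h1, h2, -⟩
  omega

theorem xw_lt (l : List Nat) : ∀ q ∈ xw l, q < 3510 := by
  intro q hq
  obtain ⟨j, -, hq⟩ := List.mem_flatMap.1 hq
  have h := xs_ok
  rw [Bool.and_eq_true] at h
  rcases lt_or_ge j xs.length with hj | hj
  · rw [List.getD_eq_getElem _ _ hj] at hq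
    exact Nat.ble_eq.mp (List.all_eq_true.1 (List.all_eq_true.1 h.2 _ (List.getElem_mem hj)) q hq)
  · rw [List.getD_eq_default _ _ hj] at hq
    exact absurd hq List.not_mem_nil

variable (A : Act)
include A

theorem conj_gen {l j : Nat} (hl : l < 17) (hj : j < 17) :
    ∃ m ∈ Kg (l + 1), (xel [j])⁻¹ * xel [l] * xel [j] = xel [l] * m := by
  have h := (allFrom_iff _ _ _).1 ((allFrom_iff _ _ _).1 cj_ok l (Nat.zero_le _) (by omega)) j
    (Nat.zero_le _) (by omega)
  rw [cjOk, Bool.and_eq_true] at h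
  refine ⟨_, inb_mem h.2, ?_⟩
  have h1 := (eqW_iff A _ _).1 h.1
  rw [lp_append, lp_append, lp_reverse] at h1
  rw [← xel_cons]
  exact h1

theorem bet_gen {β : MulAut G} (hβ : IsBet β) {l : Nat} (hl : l < 17) :
    (∃ m ∈ Kg (l + 1), β (xel [l]) = xel [l] * m) ∧ xel [l] * xel [l] ∈ Kg (l + 1) := by
  have h := (allFrom_iff _ _ _).1 gen_ok l (Nat.zero_le _) (by omega)
  rw [genOk, Bool.and_eq_true, Bool.and_eq_true, Bool.and_eq_true] at h
  refine ⟨⟨_, inb_mem h.1.2, ?_⟩, ?_⟩
  · have h1 := (eqW_iff A _ _).1 h.1.1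
    rw [← bet_lp hβ _ (xw_lt _)] at h1
    rw [← xel_cons]
    exact h1
  · have h1 := (eqW_iff A _ _).1 h.2.1
    rw [lp_append] at h1
    show lp (xw [l]) * lp (xw [l]) ∈ _
    rw [h1]
    exact inb_mem h.2.2

theorem finite_G : Finite G := Fi22Order.card_bound.1

theorem normalises {i j : Nat} (hj : j < 17) : xel [j] ∈ Subgroup.normalizer (Kg i : Set G) := by
  haveI := finite_G A
  have hle : (Kg i).map (MulAut.conj (xel [j])⁻¹).toMonoidHom ≤ Kg i := by
    rw [Kg, MonoidHom.map_closure, Subgroup.closure_le]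
    rintro _ ⟨_, ⟨l, h1, h2, rfl⟩, rfl⟩
    obtain ⟨m, hm, he⟩ := conj_gen A h2 hj
    show MulAut.conj (xel [j])⁻¹ (xel [l]) ∈ Kg i
    rw [MulAut.conj_apply, inv_inv, he]
    exact mul_mem (gen_mem h1 h2) (Kg_anti (by omega) hm)
  have heq := Subgroup.eq_of_le_of_card_ge hle (by
    rw [Subgroup.card_map_of_injective (MulAut.conj (xel [j])⁻¹).injective])
  rw [Subgroup.mem_normalizer_iff]
  intro x
  refine ⟨fun hx => ?_, fun hx => ?_⟩
  · rw [← heq] at hx
    obtain ⟨y, hy, rfl⟩ := hx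
    show xel [j] * MulAut.conj (xel [j])⁻¹ y * (xel [j])⁻¹ ∈ Kg i
    simpa [mul_assoc] using hy
  · have := hle ⟨_, hx, rfl⟩
    simpa [mul_assoc] using this

theorem conj_mem {i : Nat} {g x : G} (hg : g ∈ Kg 0) (hx : x ∈ Kg i) : g * x * g⁻¹ ∈ Kg i := by
  have h : Kg 0 ≤ Subgroup.normalizer (Kg i : Set G) := by
    refine (Subgroup.closure_le _).2 ?_
    rintro _ ⟨j, -, hj, rfl⟩
    exact normalises A hj
  exact (Subgroup.mem_normalizer_iff.1 (h hg) x).1 hx

theorem split {i : Nat} (hi : i < 17) {k : G} (hk : k ∈ Kg i) :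
    k ∈ Kg (i + 1) ∨ ∃ m ∈ Kg (i + 1), k = xel [i] * m := by
  have hsq : xel [i] * xel [i] ∈ Kg (i + 1) := by
    have h := (allFrom_iff _ _ _).1 gen_ok i (Nat.zero_le _) (by omega)
    rw [genOk, Bool.and_eq_true, Bool.and_eq_true, Bool.and_eq_true] at h
    have h1 := (eqW_iff A _ _).1 h.2.1
    rw [lp_append] at h1
    show lp (xw [i]) * lp (xw [i]) ∈ _
    rw [h1]
    exact inb_mem h.2.2
  have hx : xel [i] ∈ Kg 0 := gen_mem (Nat.zero_le _) hi
  induction hk using Subgroup.closure_induction_left with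
  | one => exact Or.inl (one_mem _)
  | mul_left a ha y _ ih =>
    obtain ⟨j, h1, h2, rfl⟩ := ha
    rcases eq_or_lt_of_le h1 with rfl | h1
    · rcases ih with h | ⟨m, hm, rfl⟩
      · exact Or.inr ⟨y, h, rfl⟩
      · exact Or.inl (by rw [← mul_assoc]; exact mul_mem hsq hm)
    · rcases ih with h | ⟨m, hm, rfl⟩
      · exact Or.inl (mul_mem (gen_mem h1 h2) h)
      · refine Or.inr ⟨(xel [i])⁻¹ * xel [j] * (xel [i])⁻¹⁻¹ * m,
          mul_mem (conj_mem A (inv_mem hx) (gen_mem h1 h2)) hm, ?_⟩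
        group
  | inv_mul_cancel a ha y _ ih =>
    obtain ⟨j, h1, h2, rfl⟩ := ha
    rcases eq_or_lt_of_le h1 with rfl | h1
    · rcases ih with h | ⟨m, hm, rfl⟩
      · refine Or.inr ⟨(xel [i] * xel [i])⁻¹ * y, mul_mem (inv_mem hsq) h, ?_⟩
        group
      · exact Or.inl (by rw [inv_mul_cancel_left]; exact hm)
    · rcases ih with h | ⟨m, hm, rfl⟩
      · exact Or.inl (mul_mem (inv_mem (gen_mem h1 h2)) h)
      · refine Or.inr ⟨(xel [i])⁻¹ * (xel [j])⁻¹ * (xel [i])⁻¹⁻¹ * m,
          mul_mem (conj_mem A (inv_mem hx) (inv_mem (gen_mem h1 h2))) hm, ?_⟩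
        group

theorem exists_sub : ∀ n i : Nat, i + n ≤ 17 → ∀ k ∈ Kg i, ∃ s ∈ subs i n, ∃ e ∈ Kg (i + n), k = xel s * e
  | 0, i, _, k, hk => ⟨[], List.mem_singleton_self _, k, hk, by rw [xel_nil, one_mul]⟩
  | n + 1, i, h, k, hk => by
    have hsub : subs i (n + 1) = subs (i + 1) n ++ (subs (i + 1) n).map (fun s => i :: s) := rfl
    rw [hsub, show i + (n + 1) = i + 1 + n by omega]
    rcases split A (by omega : i < 17) hk with hk | ⟨m, hm, rfl⟩
    · obtain ⟨s, hs, e, he, rfl⟩ := exists_sub n (i + 1) (by omega) k hk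
      exact ⟨s, List.mem_append_left _ hs, e, he, rfl⟩
    · obtain ⟨s, hs, e, he, rfl⟩ := exists_sub n (i + 1) (by omega) m hm
      exact ⟨_, List.mem_append_right _ (List.mem_map.2 ⟨s, hs, rfl⟩), e, he, by
        rw [xel_cons i s, mul_assoc]⟩

theorem conj_word (w : List Nat) {q : Nat} (hq : q < 3510) :
    lp w * T q * (lp w)⁻¹ = T (img w.reverse q) := by
  rw [← M22O8.conjT A w.reverse hq, lp_reverse, inv_inv]

theorem gen_notMem {i : Nat} (hi : i < 17) : xel [i] ∉ Kg (i + 1) := by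
  intro hmem
  rcases lt_or_ge i 7 with h7 | h7
  · obtain ⟨s, hs, e, he, heq⟩ := exists_sub A (6 - i) (i + 1) (by omega) _ hmem
    rw [show i + 1 + (6 - i) = 7 by omega] at he
    obtain ⟨q, hq, hne⟩ := List.any_eq_true.1
      (List.all_eq_true.1 ((allFrom_iff _ _ _).1 sep_hi i (Nat.zero_le _) (by omega)) s hs)
    have hb := base_fix
    rw [Bool.and_eq_true] at hb
    have hql : q < 3510 := Nat.ble_eq.mp (List.all_eq_true.1 hb.1 q hq)
    have hef : e * T q * e⁻¹ = T q := by
      clear heq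
      induction he using Subgroup.closure_induction with
      | mem x hx =>
        obtain ⟨j, h1, h2, rfl⟩ := hx
        rw [xel, conj_word A _ hql]
        congr 1
        exact Nat.eq_of_beq_eq_true
          (List.all_eq_true.1 ((allFrom_iff _ _ _).1 hb.2 j h1 (by omega)) q hq)
      | one => group
      | mul x y _ _ hx hy =>
        calc x * y * T q * (x * y)⁻¹ = x * (y * T q * y⁻¹) * x⁻¹ := by group
          _ = T q := by rw [hy, hx]
      | inv x _ hx =>
        calc x⁻¹ * T q * x⁻¹⁻¹ = x⁻¹ * (x * T q * x⁻¹) * x := by rw [hx]; group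
          _ = T q := by group
    have h1 : xel [i] * T q * (xel [i])⁻¹ = xel s * T q * (xel s)⁻¹ := by
      rw [heq]
      calc xel s * e * T q * (xel s * e)⁻¹ = xel s * (e * T q * e⁻¹) * (xel s)⁻¹ := by group
        _ = _ := by rw [hef]
    rw [xel, xel, conj_word A _ hql, conj_word A _ hql] at h1
    rw [M22O8.T_inj' A (img_lt A _ hql) (img_lt A _ hql) h1, Nat.beq_refl] at hne
    exact Bool.noConfusion hne
  · obtain ⟨s, hs, e, he, heq⟩ := exists_sub A (16 - i) (i + 1) (by omega) _ hmem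
    rw [show i + 1 + (16 - i) = 17 by omega, Kg_last, Subgroup.mem_bot] at he
    rw [he, mul_one] at heq
    have h := List.all_eq_true.1 ((allFrom_iff _ _ _).1 sep_lo i h7 (by omega)) s hs
    rw [(eqW_iff A _ _).2 heq] at h
    exact Bool.noConfusion h

theorem card_Kg : ∀ n, n ≤ 17 → Nat.card ↥(Kg (17 - n)) = 2 ^ n
  | 0, _ => by rw [Nat.sub_zero, Kg_last, Subgroup.card_bot, pow_zero]
  | n + 1, h => by
    haveI := finite_G A
    have hi : 16 - n < 17 := by omega
    have hle : Kg (16 - n + 1) ≤ Kg (16 - n) := Kg_anti (Nat.le_succ _)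
    let f : Bool × ↥(Kg (16 - n + 1)) → ↥(Kg (16 - n)) := fun p =>
      ⟨cond p.1 (xel [16 - n]) 1 * p.2, mul_mem (by
        cases p.1
        · exact one_mem _
        · exact gen_mem le_rfl hi) (hle p.2.2)⟩
    have hf : Function.Bijective f := by
      refine ⟨fun ⟨a, x⟩ ⟨b, y⟩ h => ?_, fun k => ?_⟩
      · have h1 : cond a (xel [16 - n]) 1 * (x : G) = cond b (xel [16 - n]) 1 * (y : G) :=
          congrArg Subtype.val h
        cases a <;> cases b <;> simp only [cond_true, cond_false, one_mul, mul_right_inj] at h1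
        · exact Prod.ext rfl (Subtype.ext h1)
        · exact absurd ((eq_mul_inv_of_mul_eq h1.symm).symm ▸ mul_mem x.2 (inv_mem y.2) :
            xel [16 - n] ∈ Kg (16 - n + 1)) (gen_notMem A hi)
        · exact absurd ((eq_mul_inv_of_mul_eq h1).symm ▸ mul_mem y.2 (inv_mem x.2) :
            xel [16 - n] ∈ Kg (16 - n + 1)) (gen_notMem A hi)
        · exact Prod.ext rfl (Subtype.ext h1)
      · rcases split A hi k.2 with hk | ⟨m, hm, hk⟩
        · exact ⟨(false, ⟨k, hk⟩), Subtype.ext (one_mul _)⟩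
        · exact ⟨(true, ⟨m, hm⟩), Subtype.ext hk.symm⟩
    rw [show 17 - (n + 1) = 16 - n by omega, ← Nat.card_congr (Equiv.ofBijective f hf), Nat.card_prod,
      show 16 - n + 1 = 17 - n by omega, card_Kg n (by omega), Nat.card_eq_fintype_card,
      Fintype.card_bool, pow_succ, mul_comm]

theorem bet_mem {β : MulAut G} (hβ : IsBet β) {i : Nat} {k : G} (hk : k ∈ Kg i) : β k ∈ Kg i := by
  induction hk using Subgroup.closure_induction with
  | mem x hx =>
    obtain ⟨j, h1, h2, rfl⟩ := hx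
    obtain ⟨m, hm, he⟩ := (bet_gen A hβ h2).1
    rw [he]
    exact mul_mem (gen_mem h1 h2) (Kg_anti (by omega) hm)
  | one => rw [map_one]; exact one_mem _
  | mul x y _ _ hx hy => rw [map_mul]; exact mul_mem hx hy
  | inv x _ hx => rw [map_inv]; exact inv_mem hx

omit A in
theorem exists_zip {α β : Type*} {c : α} : ∀ {l : List α} {m : List β}, l.length = m.length → c ∈ l →
    ∃ e, (c, e) ∈ l.zip m
  | [], _, _, h => absurd h List.not_mem_nil
  | _ :: _, [], h, _ => by simp at h
  | a :: l, b :: m, h, hc => by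
    rcases List.mem_cons.1 hc with rfl | hc
    · exact ⟨b, List.mem_cons_self⟩
    · obtain ⟨e, he⟩ := exists_zip (l := l) (m := m) (by simpa using h) hc
      exact ⟨e, List.mem_cons_of_mem _ he⟩

omit A in
theorem levels : ∀ i, i < 17 → levelOk i = true := by
  intro i hi
  rcases lt_or_ge i 9 with h | h
  · exact (allFrom_iff _ _ _).1 level_a i (Nat.zero_le _) (by omega)
  rcases lt_or_ge i 12 with h' | h'
  · exact (allFrom_iff _ _ _).1 level_b i h (by omega)
  rcases lt_or_ge i 14 with h'' | h''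
  · exact (allFrom_iff _ _ _).1 level_c i h' (by omega)
  · exact (allFrom_iff _ _ _).1 level_d i h'' (by omega)

omit A in
theorem rts_lt {i : Nat} {r : List Nat} (hr : r ∈ rts.getD i []) : ∀ s ∈ r, s < 17 := by
  intro s hs
  have h := rts_ok
  rw [Bool.and_eq_true] at h
  rcases lt_or_ge i rts.length with hi | hi
  · rw [List.getD_eq_getElem _ _ hi] at hr
    exact Nat.ble_eq.mp (List.all_eq_true.1 (List.all_eq_true.1 (List.all_eq_true.1 h.2 _
      (List.getElem_mem hi)) r hr) s hs)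
  · rw [List.getD_eq_default _ _ hi] at hr
    exact absurd hr List.not_mem_nil

omit A in
theorem lEq_eq : ∀ {a b : List Nat}, lEq a b = true → a = b
  | [], [], _ => rfl
  | [], _ :: _, h => by simp [lEq] at h
  | _ :: _, [], h => by simp [lEq] at h
  | x :: a, y :: b, h => by
    have h' : (Nat.beq x y && lEq a b) = true := h
    rw [Bool.and_eq_true] at h'
    rw [Nat.eq_of_beq_eq_true h'.1, lEq_eq h'.2]

/-- Reduction of an element inverted by the outer automorphism to the representatives of a level. -/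
theorem reduce {β : MulAut G} (hβ : IsBet β) {k : G} (hk : k ∈ Kg 0) (hkk : β k * k = 1) :
    ∀ i, i ≤ 17 → ∃ r ∈ rts.getD i [], ∃ u ∈ Kg 0, ∃ m ∈ Kg i, β u * k * u⁻¹ = xel r * m
  | 0, _ => by
    have h : rts.getD 0 [] = [[]] := by decide +kernel
    exact ⟨[], by rw [h]; exact List.mem_singleton_self _, 1, one_mem _, k, hk, by
      rw [map_one, inv_one, one_mul, mul_one, xel_nil, one_mul]⟩
  | i + 1, hi => by
    obtain ⟨r, hr, u, hu, m, hm, he⟩ := reduce hβ hk hkk i (by omega)
    have hi' : i < 17 := by omega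
    obtain ⟨c, hc, m', hm', hcm⟩ : ∃ c ∈ kids i, ∃ m' ∈ Kg (i + 1), xel r * m = xel c * m' := by
      rcases split A hi' hm with h | ⟨m', hm', rfl⟩
      · exact ⟨r, List.mem_flatMap.2 ⟨r, hr, by simp⟩, m, h, rfl⟩
      · exact ⟨r ++ [i], List.mem_flatMap.2 ⟨r, hr, by simp⟩, m', hm', by
          rw [xel_append, mul_assoc]⟩
    have hcK : xel c ∈ Kg 0 := by
      refine xel_mem c fun s hs => ⟨Nat.zero_le _, ?_⟩
      obtain ⟨r', hr', hc'⟩ := List.mem_flatMap.1 hc
      simp only [List.mem_cons, List.not_mem_nil, or_false] at hc'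
      rcases hc' with rfl | rfl
      · exact rts_lt hr' s hs
      · rcases List.mem_append.1 hs with h | h
        · exact rts_lt hr' s h
        · rw [List.mem_singleton] at h; omega
    rw [hcm] at he
    have hL := levels i hi'
    rw [levelOk, Bool.and_eq_true] at hL
    obtain ⟨⟨tag, d, v, z⟩, hez⟩ := exists_zip (Nat.eq_of_beq_eq_true hL.1) hc
    have hrec := List.all_eq_true.1 hL.2 _ hez
    have hgetd : d < (rts.getD (i + 1) []).length →
        (rts.getD (i + 1) []).getD d [] ∈ rts.getD (i + 1) [] := fun h => by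
      rw [List.getD_eq_getElem _ _ h]; exact List.getElem_mem h
    match tag with
    | 0 =>
      simp only [recOk, Bool.and_eq_true] at hrec
      rw [lEq_eq hrec.2] at he
      exact ⟨_, hgetd (Nat.ble_eq.mp hrec.1), u, hu, m', hm', he⟩
    | 1 =>
      simp only [recOk, Bool.and_eq_true] at hrec
      obtain ⟨⟨⟨hd, hv⟩, hz⟩, heq⟩ := hrec
      set D := (rts.getD (i + 1) []).getD d []
      have h1 := (eqW_iff A _ _).1 heq
      rw [lp_append, lp_append, lp_reverse, ← bet_lp hβ _ (xw_lt _)] at h1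
      have h2 : β (xel v) * xel D * (xel v)⁻¹ = xel c * xel z := by rw [← xel_append]; exact h1
      have hvK : xel v ∈ Kg 0 := xel_mem v fun s hs =>
        ⟨Nat.zero_le _, Nat.ble_eq.mp (List.all_eq_true.1 hv s hs)⟩
      refine ⟨D, hgetd (Nat.ble_eq.mp hd), (xel v)⁻¹ * u, mul_mem (inv_mem hvK) hu,
        (xel v)⁻¹ * ((xel z)⁻¹ * m') * (xel v)⁻¹⁻¹,
        conj_mem A (inv_mem hvK) (mul_mem (inv_mem (inb_mem hz)) hm'), ?_⟩
      calc β ((xel v)⁻¹ * u) * k * ((xel v)⁻¹ * u)⁻¹
          = (β (xel v))⁻¹ * (β u * k * u⁻¹) * xel v := by rw [map_mul, map_inv]; group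
        _ = (β (xel v))⁻¹ * (xel c * xel z) * ((xel z)⁻¹ * m') * xel v := by rw [he]; group
        _ = _ := by rw [← h2]; group
    | n + 2 =>
      exfalso
      match z with
      | [] => simp [recOk] at hrec
      | h :: z =>
        simp only [recOk, Bool.and_eq_true] at hrec
        obtain ⟨⟨hh, hz⟩, heq⟩ := hrec
        have h1 := (eqW_iff A _ _).1 heq
        rw [lp_append, ← bet_lp hβ _ (xw_lt _)] at h1
        have h2 : β (xel c) * xel c = xel [h] * xel z := by rw [← xel_cons]; exact h1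
        have hββ : β (β u) = u := by rw [← MulAut.mul_apply, bet_sq hβ]; rfl
        have hk2 : β (β u * k * u⁻¹) * (β u * k * u⁻¹) = 1 := by
          rw [map_mul, map_mul, hββ, map_inv]
          calc u * β k * (β u)⁻¹ * (β u * k * u⁻¹) = u * (β k * k) * u⁻¹ := by group
            _ = 1 := by rw [hkk]; group
        rw [he, map_mul] at hk2
        have h3 : β (xel c) * xel c ∈ Kg (i + 1) := by
          have e : β (xel c) * xel c =
              ((xel c)⁻¹ * β m' * (xel c)⁻¹⁻¹ * m')⁻¹ := by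
            refine eq_inv_of_mul_eq_one_left ?_
            calc β (xel c) * xel c * ((xel c)⁻¹ * β m' * (xel c)⁻¹⁻¹ * m')
                = β (xel c) * β m' * (xel c * m') := by group
              _ = 1 := hk2
          rw [e]
          exact inv_mem (mul_mem (conj_mem A (inv_mem hcK) (bet_mem A hβ hm')) hm')
        rw [h2] at h3
        have hh' : h ≤ i := Nat.ble_eq.mp hh
        have h4 := mul_mem (Kg_anti (by omega : h + 1 ≤ i + 1) h3) (inv_mem (inb_mem hz))
        rw [mul_inv_cancel_right] at h4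
        exact gen_notMem A (by omega) h4

variable {Γ : Type*} [Group Γ] [Finite Γ] {D : Set Γ} (C : Ctx Γ D)
include C

theorem conj_injective : Function.Injective (MulAut.conj : G →* MulAut G) := by
  refine (injective_iff_map_eq_one _).2 fun u hu => cen_eq_one A C fun e _ => ?_
  exact mul_inv_eq_iff_eq_mul.1 (DFunLike.congr_fun hu (T e.1) : u * T e.1 * u⁻¹ = T e.1)

omit A C in
theorem bet_conj (β : MulAut G) (k : G) : β * MulAut.conj k = MulAut.conj (β k) * β :=
  MulEquiv.ext fun x => by simp [map_mul]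

/-- Every outer involution is conjugate to one of the three. -/
theorem classify {β : MulAut G} (hβ : IsBet β) {τ : MulAut G} (hτ : orderOf τ = 2)
    (hout : τ ∉ (MulAut.conj : G →* MulAut G).range) :
    ∃ r, r < 3 ∧ IsConj τ (β * MulAut.conj (lp (rep3 r))) := by
  classical
  haveI := finite_G A
  haveI : Finite (MulAut G) := Finite.of_injective (fun f => (f : G → G)) DFunLike.coe_injective
  have hb2 := bet_sq hβ
  have hbb : ∀ x, β (β x) = x := fun x => by rw [← MulAut.mul_apply, hb2]; rfl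
  let S : Subgroup (MulAut G) :=
    { carrier := {x | ∃ k ∈ Kg 0, x = MulAut.conj k ∨ x = β * MulAut.conj k}
      one_mem' := ⟨1, one_mem _, Or.inl (map_one _).symm⟩
      mul_mem' := by
        rintro _ _ ⟨k, hk, h⟩ ⟨l, hl, h'⟩
        rcases h with rfl | rfl <;> rcases h' with rfl | rfl
        · exact ⟨k * l, mul_mem hk hl, Or.inl (map_mul _ _ _).symm⟩
        · refine ⟨β k * l, mul_mem (bet_mem A hβ hk) hl, Or.inr ?_⟩
          rw [map_mul, ← mul_assoc, ← mul_assoc, bet_conj β (β k), hbb]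
        · exact ⟨k * l, mul_mem hk hl, Or.inr (by rw [map_mul, mul_assoc])⟩
        · refine ⟨β k * l, mul_mem (bet_mem A hβ hk) hl, Or.inl ?_⟩
          rw [map_mul, bet_conj β k]
          simp only [mul_assoc]
          rw [← mul_assoc β β, hb2, one_mul]
      inv_mem' := by
        rintro _ ⟨k, hk, rfl | rfl⟩
        · exact ⟨k⁻¹, inv_mem hk, Or.inl (map_inv _ _).symm⟩
        · refine ⟨β k⁻¹, bet_mem A hβ (inv_mem hk), Or.inr ?_⟩
          rw [mul_inv_rev, ← map_inv, inv_eq_of_mul_eq_one_right hb2, bet_conj β (β k⁻¹), hbb] }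
  have hinj := conj_injective A C
  have hcardS : Nat.card ↥S = 2 ^ 18 := by
    let f : Bool × ↥(Kg 0) → ↥S := fun p => ⟨cond p.1 β 1 * MulAut.conj (p.2 : G), p.2, p.2.2, by
      cases p.1
      · exact Or.inl (one_mul _)
      · exact Or.inr rfl⟩
    have hf : Function.Bijective f := by
      refine ⟨fun ⟨a, x⟩ ⟨b, y⟩ h => ?_, fun ⟨x, k, hk, hx⟩ => ?_⟩
      · have h1 : cond a β 1 * MulAut.conj (x : G) = cond b β 1 * MulAut.conj (y : G) :=
          congrArg Subtype.val h
        cases a <;> cases b <;> simp only [cond_true, cond_false, one_mul, mul_right_inj] at h1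
        · exact Prod.ext rfl (Subtype.ext (hinj h1))
        · exact absurd ⟨_, ((map_mul _ _ _).trans (by rw [h1, map_inv, mul_inv_cancel_right]) :
            MulAut.conj ((x : G) * (y : G)⁻¹) = β)⟩ (bet_outer A C hβ)
        · exact absurd ⟨_, ((map_mul _ _ _).trans (by rw [← h1, map_inv, mul_inv_cancel_right]) :
            MulAut.conj ((y : G) * (x : G)⁻¹) = β)⟩ (bet_outer A C hβ)
        · exact Prod.ext rfl (Subtype.ext (hinj h1))
      · rcases hx with rfl | rfl
        · exact ⟨(false, ⟨k, hk⟩), Subtype.ext (one_mul _)⟩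
        · exact ⟨(true, ⟨k, hk⟩), rfl⟩
    rw [← Nat.card_congr (Equiv.ofBijective f hf), Nat.card_prod, Nat.card_eq_fintype_card,
      Fintype.card_bool, show Kg 0 = Kg (17 - 17) from rfl, card_Kg A 17 le_rfl]
    norm_num
  haveI : Fact (Nat.Prime 2) := ⟨Nat.prime_two⟩
  have hfac : (Nat.card (MulAut G)).factorization 2 = 18 := by
    rw [ThreeTrans.card_mulAut_fi22, Fi22Order.order_and_simple.2]
    have h1 := (Nat.prime_two.pow_dvd_iff_le_factorization (k := 18) (by norm_num : (2 * 64561751654400 : ℕ) ≠ 0)).1 (by norm_num)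
    have h2 := mt (Nat.prime_two.pow_dvd_iff_le_factorization (k := 19) (by norm_num : (2 * 64561751654400 : ℕ) ≠ 0)).2 (by norm_num)
    omega
  let P : Sylow 2 (MulAut G) := Sylow.ofCard S (by rw [hcardS, hfac])
  obtain ⟨Q, hQ⟩ := IsPGroup.exists_le_sylow (p := 2) (P := Subgroup.zpowers τ)
    (IsPGroup.of_card (n := 1) (by rw [Nat.card_zpowers, hτ, pow_one]))
  obtain ⟨x, hx⟩ := MulAction.exists_smul_eq (MulAut G) Q P
  have hmem : x * τ * x⁻¹ ∈ S := by
    have h : x * τ * x⁻¹ ∈ ((x • Q : Sylow 2 (MulAut G)) : Subgroup (MulAut G)) := by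
      rw [Sylow.coe_subgroup_smul]
      exact Subgroup.smul_mem_pointwise_smul τ (MulAut.conj x) _ (hQ (Subgroup.mem_zpowers τ))
    rwa [hx] at h
  obtain ⟨k, hk, hkx⟩ := hmem
  rcases hkx with hkx | hkx
  · refine absurd ⟨x.symm k, ?_⟩ hout
    refine MulEquiv.ext fun y => ?_
    have h := DFunLike.congr_fun hkx (x y)
    simp only [MulAut.mul_apply, MulAut.conj_apply, MulAut.inv_apply_self] at h
    apply x.injective
    rw [MulAut.conj_apply, map_mul, map_mul, map_inv, MulEquiv.apply_symm_apply, h]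
  have hτ2 : τ * τ = 1 := by rw [← pow_two, ← hτ, pow_orderOf_eq_one]
  have hkk : β k * k = 1 := by
    refine hinj ?_
    have h : x * τ * x⁻¹ * (x * τ * x⁻¹) = 1 := by
      rw [show x * τ * x⁻¹ * (x * τ * x⁻¹) = x * (τ * τ) * x⁻¹ by group, hτ2]; group
    rw [hkx] at h
    rw [map_one, ← h]
    calc MulAut.conj (β k * k) = MulAut.conj (β k) * (β * β) * MulAut.conj k := by
          rw [hb2, mul_one, map_mul]
      _ = MulAut.conj (β k) * β * (β * MulAut.conj k) := by simp only [mul_assoc]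
      _ = β * MulAut.conj k * (β * MulAut.conj k) := by rw [← bet_conj]
  obtain ⟨r, hr, u, -, m, hm, he⟩ := reduce A hβ hk hkk 17 le_rfl
  rw [Kg_last, Subgroup.mem_bot] at hm
  rw [hm, mul_one] at he
  have hF := fusion_ok
  rw [fusionOk, Bool.and_eq_true] at hF
  obtain ⟨⟨j, w⟩, hw⟩ := exists_zip (Nat.eq_of_beq_eq_true hF.1) hr
  have h := List.all_eq_true.1 hF.2 _ hw
  simp only [Bool.and_eq_true] at h
  obtain ⟨⟨hj, hwl⟩, heq⟩ := h
  refine ⟨j, Nat.ble_eq.mp hj, isConj_iff.2 ⟨MulAut.conj (lp w * u) * x, ?_⟩⟩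
  have h1 := (eqW_iff A _ _).1 heq
  rw [lp_append, lp_append, lp_reverse,
    ← bet_lp hβ _ (fun q hq => Nat.ble_eq.mp (List.all_eq_true.1 hwl q hq))] at h1
  rw [show MulAut.conj (lp w * u) * x * τ * (MulAut.conj (lp w * u) * x)⁻¹ =
    MulAut.conj (lp w * u) * (x * τ * x⁻¹) * (MulAut.conj (lp w * u))⁻¹ by group, hkx]
  rw [← h1, show M22Local.lp (xw r) = xel r from rfl, ← he, ← map_inv,
    show β (M22Local.lp w) * (β u * k * u⁻¹) * (M22Local.lp w)⁻¹ = β (M22Local.lp w * u) * k * (M22Local.lp w * u)⁻¹ by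
      rw [map_mul]; group,
    map_mul MulAut.conj (β (M22Local.lp w * u) * k), map_mul MulAut.conj (β (M22Local.lp w * u))]
  simp only [mul_assoc]
  rw [← mul_assoc β (MulAut.conj (β _)), bet_conj β (β _), hbb, mul_assoc]

end Cfsg.Agent.M22Outer
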