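import Cfsg.Agent.CosetCert.Basic

/-! Generated: a 2-group normalised by the outer automorphism, the reduction of its twisted conjugacy classes,
and the members fixed by the three automorphisms. -/

set_option maxRecDepth 100000
set_option Elab.async false

namespace Cfsg.Agent.M22Outer

/-- Generators of the 2-group. -/
def xs : List (List Nat) :=
  [[147,223],[5,135],[5,1521],[1,205],[1,4],[1,77],[1,1902],[0],[0,246],[0,6],[0,97],[0,2125],[40],[40,308],[40,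
  676],[92],[92,154]]

/-- Their conjugates. -/
def cjs : List (List (List Nat)) :=
  [[[],[2,16],[],[4,5,6,12,13,15,16],[6,14,16],[6,16],[],[11],[9,10,11,12,16],[11],[11],[],[],[14,16],[],[16],
  []],[[2,16],[],[],[5,6,13,14,15],[5],[],[16],[10],[10,11,13,14,15],[10],[],[16],[13],[],[16],[],[]],[[],[],[],
  [5,13],[6],[16],[],[11],[10,13],[11],[16],[],[14],[16],[],[],[]],[[4,5,6,12,13,15,16],[5,6,13,14,15],[5,13],
  [],[],[],[],[8],[],[12,13,14],[14,15,16],[13,14,15],[],[],[],[],[]],[[6,14,16],[5],[6],[],[],[],[],[9],[12,13,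
  14],[],[13,15],[14,16],[],[],[],[],[]],[[6,16],[],[16],[],[],[],[],[10],[14,15,16],[13,15],[],[16],[],[],[],
  [],[]],[[],[16],[],[],[],[],[],[11],[13,14,15],[14,16],[16],[],[],[],[],[],[]],[[11],[10],[11],[8],[9],[10],
  [11],[],[],[],[],[],[],[],[],[],[]],[[9,10,11,12,16],[10,11,13,14,15],[10,13],[],[12,13,14],[14,15,16],[13,14,
  15],[],[],[],[],[],[],[],[],[],[]],[[11],[10],[11],[12,13,14],[],[13,15],[14,16],[],[],[],[],[],[],[],[],[],
  []],[[11],[],[16],[14,15,16],[13,15],[],[16],[],[],[],[],[],[],[],[],[],[]],[[],[16],[],[13,14,15],[14,16],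
  [16],[],[],[],[],[],[],[],[],[],[],[]],[[],[13],[14],[],[],[],[],[],[],[],[],[],[],[],[],[],[]],[[14,16],[],
  [16],[],[],[],[],[],[],[],[],[],[],[],[],[],[]],[[],[16],[],[],[],[],[],[],[],[],[],[],[],[],[],[],[]],[[16],
  [],[],[],[],[],[],[],[],[],[],[],[],[],[],[],[]],[[],[],[],[],[],[],[],[],[],[],[],[],[],[],[],[],[]]]

/-- Their images. -/
def bzs : List (List Nat) :=
  [[],[2,16],[],[4,6,12,14,15,16],[],[6,16],[],[],[9,11,12,14,15,16],[],[11,16],[],[],[14,16],[],[],[]]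

/-- Their squares. -/
def sqs : List (List Nat) :=
  [[],[],[],[],[],[],[],[],[],[],[],[],[],[],[],[],[]]

/-- Representatives of the classes at each level. -/
def rts : List (List (List Nat)) :=
  [[[]],[[],[0]],[[],[1],[0],[0,1]],[[],[0],[0,2],[0,1]],[[],[3],[0],[0,3],[0,2],[0,2,3],[0,1],[0,1,3]],[[],[0],
  [0,4],[0,3],[0,2],[0,2,4],[0,2,3],[0,1],[0,1,4],[0,1,3],[0,1,3,4]],[[],[5],[0],[0,4],[0,2],[0,2,5],[0,2,4],[0,
  2,3],[0,1],[0,1,3]],[[],[0],[0,2],[0,2,5],[0,2,4],[0,1],[0,1,6],[0,1,3]],[[],[7],[0],[0,7],[0,2],[0,2,7],[0,2,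
  5],[0,2,5,7],[0,2,4],[0,2,4,7],[0,1],[0,1,7],[0,1,6],[0,1,6,7],[0,1,3],[0,1,3,7]],[[],[8],[7],[7,8],[0],[0,8],
  [0,7],[0,7,8],[0,2],[0,2,8],[0,2,7],[0,2,7,8],[0,2,5],[0,2,5,8],[0,2,5,7],[0,2,4],[0,2,4,8],[0,2,4,7],[0,1],
  [0,1,8],[0,1,7],[0,1,6],[0,1,6,8],[0,1,6,7],[0,1,3]],[[],[7],[0],[0,9],[0,8],[0,7],[0,7,9],[0,7,8],[0,2],[0,2,
  9],[0,2,8],[0,2,7],[0,2,7,8],[0,2,5],[0,2,5,9],[0,2,5,8],[0,2,5,7],[0,2,4],[0,2,4,8],[0,1],[0,1,9],[0,1,8],[0,
  1,8,9],[0,1,7],[0,1,7,9],[0,1,6],[0,1,6,9],[0,1,6,8],[0,1,6,8,9],[0,1,6,7],[0,1,6,7,9],[0,1,3],[0,1,3,9]],[[],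
  [10],[7],[7,10],[0],[0,9],[0,7],[0,7,9],[0,2],[0,2,10],[0,2,9],[0,2,8],[0,2,7],[0,2,7,8],[0,2,5],[0,2,5,9],[0,
  2,5,8],[0,2,4],[0,2,4,10],[0,2,4,8],[0,1],[0,1,8],[0,1,7,9],[0,1,6],[0,1,6,8],[0,1,6,7,9],[0,1,3]],[[],[7],
  [0],[0,7,9],[0,2],[0,2,10],[0,2,9],[0,2,7],[0,2,5],[0,2,5,9],[0,2,4],[0,2,4,10],[0,1],[0,1,11],[0,1,8],[0,1,7,
  9],[0,1,6],[0,1,6,8],[0,1,3],[0,1,3,11]],[[],[12],[7],[0],[0,12],[0,7,9],[0,7,9,12],[0,2],[0,2,12],[0,2,10],
  [0,2,10,12],[0,2,9],[0,2,9,12],[0,2,7],[0,2,7,12],[0,2,5],[0,2,5,12],[0,2,5,9],[0,2,4],[0,2,4,12],[0,2,4,10],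
  [0,1],[0,1,12],[0,1,11],[0,1,11,12],[0,1,8],[0,1,8,12],[0,1,7,9],[0,1,7,9,12],[0,1,6],[0,1,6,12],[0,1,6,8],[0,
  1,6,8,12],[0,1,3],[0,1,3,12],[0,1,3,11],[0,1,3,11,12]],[[],[13],[12],[12,13],[7],[7,13],[0],[0,13],[0,12],[0,
  7,9],[0,7,9,12],[0,2],[0,2,13],[0,2,12],[0,2,10],[0,2,10,12],[0,2,9],[0,2,9,12],[0,2,7],[0,2,7,12],[0,2,5],[0,
  2,5,12],[0,2,4],[0,2,4,12],[0,1],[0,1,11],[0,1,8,12],[0,1,7,9],[0,1,6],[0,1,6,8],[0,1,3],[0,1,3,11,12]],[[],
  [12],[7],[0],[0,14],[0,13],[0,12],[0,7,9],[0,7,9,12],[0,2],[0,2,13],[0,2,10],[0,2,9],[0,2,7],[0,2,5],[0,2,4,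
  12],[0,1],[0,1,11],[0,1,11,14],[0,1,8,12],[0,1,7,9],[0,1,6],[0,1,3,11,12]],[[],[15],[12],[12,15],[7],[7,15],
  [0],[0,15],[0,14],[0,14,15],[0,13],[0,13,15],[0,12],[0,12,15],[0,7,9],[0,7,9,15],[0,7,9,12],[0,7,9,12,15],[0,
  2],[0,2,15],[0,2,13],[0,2,13,15],[0,2,10],[0,2,10,15],[0,2,9],[0,2,9,15],[0,2,7],[0,2,7,15],[0,2,5],[0,2,5,
  15],[0,2,4,12],[0,2,4,12,15],[0,1],[0,1,15],[0,1,11],[0,1,11,15],[0,1,11,14],[0,1,11,14,15],[0,1,8,12],[0,1,8,
  12,15],[0,1,7,9],[0,1,7,9,15],[0,1,6],[0,1,6,15],[0,1,3,11,12],[0,1,3,11,12,15]],[[],[16],[15],[12],[12,15],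
  [7],[7,15],[0],[0,14],[0,13],[0,12],[0,7,9],[0,7,9,12],[0,2],[0,2,13,15],[0,2,10],[0,2,9],[0,2,7],[0,2,5,15],
  [0,2,4,12,15],[0,1],[0,1,11,15],[0,1,11,14],[0,1,8,12,15],[0,1,7,9],[0,1,6,15],[0,1,3,11,12]]]

/-- The reductions at each level. -/
def cert : List (List (Nat × Nat × List Nat × List Nat)) :=
  [[(0, 0, [], []),(0, 1, [], [])],[(0, 0, [], []),(0, 1, [], []),(0, 2, [], []),(0, 3, [], [])],[(0, 0, [],
   []),(1, 0, [1], [16]),(2, 0, [], [2,16]),(2, 0, [], [2,16]),(0, 1, [], []),(0, 2, [], []),(0, 3, [], []),(1,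
   3, [0], [16])],[(0, 0, [], []),(0, 1, [], []),(0, 2, [], []),(0, 3, [], []),(0, 4, [], []),(0, 5, [], []),(0,
   6, [], []),(0, 7, [], [])],[(0, 0, [], []),(1, 0, [3], [6,12,14,15,16]),(2, 0, [], [4,6,12,14,15,16]),(2, 0,
   [], [4,6,12,14,15,16]),(0, 1, [], []),(0, 2, [], []),(0, 3, [], []),(1, 3, [0], [5,6,12,13,15,16]),(0, 4, [],
   []),(0, 5, [], []),(0, 6, [], []),(1, 6, [0], [5,6,12,13,15,16]),(0, 7, [], []),(0, 8, [], []),(0, 9, [],
   []),(0, 10, [], [])],[(0, 0, [], []),(0, 1, [], []),(0, 2, [], []),(1, 2, [3], [6,13]),(0, 3, [], []),(1, 3,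
   [1], []),(2, 0, [], [5,6,13]),(2, 0, [], [5,6,13]),(0, 4, [], []),(0, 5, [], []),(0, 6, [], []),(1, 6, [1],
   []),(0, 7, [], []),(1, 7, [1], [6,13,14,15]),(0, 8, [], []),(1, 8, [4], [6,14,16]),(2, 0, [], [5,6,14,16]),
  (2, 0, [], [5,6,14,16]),(0, 9, [], []),(1, 9, [1], [6,13,14,15]),(2, 0, [], [5,6,15]),(2, 0, [], [5,6,15])],
  [(0, 0, [], []),(1, 0, [5], [16]),(2, 0, [], [6,16]),(2, 0, [], [6,16]),(0, 1, [], []),(1, 1, [4], [14,16]),
  (2, 0, [], [6,14,16]),(2, 0, [], [6,14,16]),(0, 2, [], []),(1, 2, [3], []),(0, 3, [], []),(1, 3, [0], [16]),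
  (0, 4, [], []),(1, 4, [0], [14,16]),(2, 0, [], [6]),(2, 0, [], [6]),(0, 5, [], []),(0, 6, [], []),(0, 7, [],
   []),(1, 7, [1,2], [14,15])],[(0, 0, [], []),(0, 1, [], []),(0, 2, [], []),(0, 3, [], []),(0, 4, [], []),(0,
   5, [], []),(0, 6, [], []),(0, 7, [], []),(0, 8, [], []),(0, 9, [], []),(0, 10, [], []),(0, 11, [], []),(0,
   12, [], []),(0, 13, [], []),(0, 14, [], []),(0, 15, [], [])],[(0, 0, [], []),(0, 1, [], []),(0, 2, [], []),
  (0, 3, [], []),(0, 4, [], []),(0, 5, [], []),(0, 6, [], []),(0, 7, [], []),(0, 8, [], []),(0, 9, [], []),(0,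
   10, [], []),(0, 11, [], []),(0, 12, [], []),(0, 13, [], []),(0, 14, [], []),(1, 14, [0,3], [9,10,12]),(0, 15,
   [], []),(0, 16, [], []),(0, 17, [], []),(1, 17, [0,3], [9,10,12,14]),(0, 18, [], []),(0, 19, [], []),(0, 20,
   [], []),(1, 20, [3], [14,15,16]),(0, 21, [], []),(0, 22, [], []),(0, 23, [], []),(1, 23, [3], [14,15,16]),(0,
   24, [], []),(1, 24, [7], [10,11,13]),(2, 0, [], [8,10,11,13,14,15,16]),(2, 0, [], [8,10,11,14,15])],[(0, 0,
   [], []),(1, 0, [8], [11,12,14,15,16]),(2, 0, [], [9,11,12,14,15,16]),(2, 0, [], [9,11,12,14,15,16]),(0, 1,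
   [], []),(1, 1, [4], []),(2, 0, [], [9,11,12,14,15,16]),(2, 0, [], [9,11,12,14,15,16]),(0, 2, [], []),(0, 3,
   [], []),(0, 4, [], []),(1, 4, [0], [10,11,12,16]),(0, 5, [], []),(0, 6, [], []),(0, 7, [], []),(1, 7, [0],
   [10,12,16]),(0, 8, [], []),(0, 9, [], []),(0, 10, [], []),(1, 10, [0], [10,11,12,16]),(0, 11, [], []),(1, 11,
   [4], [14,16]),(0, 12, [], []),(1, 12, [0], [10,12,16]),(0, 13, [], []),(0, 14, [], []),(0, 15, [], []),(1,
   15, [0,3], [10,11,12]),(0, 16, [], []),(1, 16, [4], [14,16]),(0, 17, [], []),(1, 17, [7], []),(0, 18, [],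
   []),(1, 18, [7], []),(2, 0, [], [9,14,16]),(2, 0, [], [9,14,16]),(0, 19, [], []),(0, 20, [], []),(0, 21, [],
   []),(0, 22, [], []),(0, 23, [], []),(0, 24, [], []),(0, 25, [], []),(0, 26, [], []),(0, 27, [], []),(0, 28,
   [], []),(0, 29, [], []),(0, 30, [], []),(0, 31, [], []),(0, 32, [], [])],[(0, 0, [], []),(0, 1, [], []),(0,
   2, [], []),(0, 3, [], []),(0, 4, [], []),(1, 4, [8], [11,14,15,16]),(0, 5, [], []),(1, 5, [1], []),(2, 0, [],
   [10,11,14,15,16]),(2, 0, [], [10,11,14,15]),(0, 6, [], []),(1, 6, [1], []),(0, 7, [], []),(1, 7, [5], [13,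
  15]),(2, 0, [], [10,14,15,16]),(2, 0, [], [10,14,15]),(0, 8, [], []),(0, 9, [], []),(0, 10, [], []),(1, 10,
   [1], []),(0, 11, [], []),(1, 11, [1], [11,13,14,15]),(0, 12, [], []),(1, 12, [1], []),(0, 13, [], []),(1, 13,
   [2], [11,13]),(0, 14, [], []),(1, 14, [7], []),(0, 15, [], []),(1, 15, [1], []),(0, 16, [], []),(1, 16, [1],
   [11,13,14,15]),(2, 0, [], [10,16]),(2, 0, [], [10,16]),(0, 17, [], []),(0, 18, [], []),(0, 19, [], []),(1,
   19, [0,3,7], [13,14,16]),(0, 20, [], []),(1, 20, [7], [11,16]),(2, 0, [], [10,11,16]),(2, 0, [], [10,11]),(0,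
   21, [], []),(1, 21, [1], [11,13,14,15]),(2, 0, [], [10,11,13]),(2, 0, [], [10,11,13,16]),(2, 0, [], [10,11,
  16]),(2, 0, [], [10,11]),(0, 22, [], []),(1, 22, [5], [13,15]),(0, 23, [], []),(1, 23, [7], []),(2, 0, [],
   [10,11,14]),(2, 0, [], [10,11,14]),(0, 24, [], []),(1, 24, [1], [11,13,14,15,16]),(2, 0, [], [10,11,15,16]),
  (2, 0, [], [10,11,15,16]),(2, 0, [], [10,16]),(2, 0, [], [10,16]),(0, 25, [], []),(1, 25, [5], [13,15]),(0,
   26, [], []),(1, 26, [9], [11,12,14]),(2, 0, [], [10,11,12,15,16]),(2, 0, [], [10,11,12,14,16])],[(0, 0, [],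
   []),(1, 0, [10], [16]),(2, 0, [], [11,16]),(2, 0, [], [11,16]),(0, 1, [], []),(1, 1, [0], []),(2, 0, [], [11,
  16]),(2, 0, [], [11,16]),(0, 2, [], []),(1, 2, [7], []),(2, 0, [], [11]),(2, 0, [], [11]),(2, 0, [], [11]),(2,
   0, [], [11]),(0, 3, [], []),(1, 3, [6], [14,16]),(0, 4, [], []),(1, 4, [8], [13,14,15]),(0, 5, [], []),(1, 5,
   [0], []),(0, 6, [], []),(1, 6, [0], []),(2, 0, [], [11,13,14,15]),(2, 0, [], [11,13,14,15]),(0, 7, [], []),
  (1, 7, [0], []),(2, 0, [], [11,13,14,15]),(2, 0, [], [11,13,14,15]),(0, 8, [], []),(1, 8, [8], [13]),(0, 9,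
   [], []),(1, 9, [2], [16]),(2, 0, [], [11,13,16]),(2, 0, [], [11,13]),(0, 10, [], []),(1, 10, [8], [12,14,15,
  16]),(0, 11, [], []),(1, 11, [8], [12,14,15,16]),(2, 0, [], [11,12,15]),(2, 0, [], [11,12,14,15,16]),(0, 12,
   [], []),(0, 13, [], []),(0, 14, [], []),(1, 14, [4,1,2,4], [13,14,15,16]),(0, 15, [], []),(1, 15, [6], [14]),
  (0, 16, [], []),(1, 16, [7,9], [14,16]),(0, 17, [], []),(1, 17, [4,7,4], [14,16]),(2, 0, [], [11,14]),(2, 0,
   [], [11,14,16]),(0, 18, [], []),(0, 19, [], [])],[(0, 0, [], []),(0, 1, [], []),(0, 2, [], []),(1, 2, [4,6,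
  8], [15]),(0, 3, [], []),(0, 4, [], []),(0, 5, [], []),(0, 6, [], []),(0, 7, [], []),(0, 8, [], []),(0, 9, [],
   []),(0, 10, [], []),(0, 11, [], []),(0, 12, [], []),(0, 13, [], []),(0, 14, [], []),(0, 15, [], []),(0, 16,
   [], []),(0, 17, [], []),(1, 17, [3,7,0,3,7,3], [16]),(0, 18, [], []),(0, 19, [], []),(0, 20, [], []),(1, 20,
   [7,1,8,7,2,8,0,7,8,1,3,7,8], [13,15,16]),(0, 21, [], []),(0, 22, [], []),(0, 23, [], []),(0, 24, [], []),(0,
   25, [], []),(0, 26, [], []),(0, 27, [], []),(0, 28, [], []),(0, 29, [], []),(0, 30, [], []),(0, 31, [], []),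
  (0, 32, [], []),(0, 33, [], []),(0, 34, [], []),(0, 35, [], []),(0, 36, [], [])],[(0, 0, [], []),(0, 1, [],
   []),(0, 2, [], []),(0, 3, [], []),(0, 4, [], []),(0, 5, [], []),(0, 6, [], []),(0, 7, [], []),(0, 8, [], []),
  (1, 8, [1], []),(0, 9, [], []),(1, 9, [6,5,8], [16]),(0, 10, [], []),(1, 10, [1], []),(0, 11, [], []),(0, 12,
   [], []),(0, 13, [], []),(1, 13, [1], []),(0, 14, [], []),(1, 14, [4], [14,15,16]),(0, 15, [], []),(1, 15,
   [1], []),(0, 16, [], []),(1, 16, [5], [15,16]),(0, 17, [], []),(1, 17, [5], [15,16]),(0, 18, [], []),(1, 18,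
   [0,8], [15]),(0, 19, [], []),(1, 19, [0,8], [15]),(0, 20, [], []),(1, 20, [9], [15]),(0, 21, [], []),(1, 21,
   [1], []),(2, 0, [], [13,15,16]),(2, 0, [], [13,15]),(0, 22, [], []),(1, 22, [10], [15]),(0, 23, [], []),(1,
   23, [10], [15]),(2, 0, [], [13,14,15,16]),(2, 0, [], [13,14,15]),(0, 24, [], []),(1, 24, [8], [16]),(2, 0,
   [], [13]),(2, 0, [], [13]),(0, 25, [], []),(1, 25, [3], [16]),(2, 0, [], [13,16]),(2, 0, [], [13,16]),(2, 0,
   [], [13,16]),(2, 0, [], [13,16]),(0, 26, [], []),(1, 26, [6], [14,15,16]),(0, 27, [], []),(1, 27, [8], [16]),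
  (2, 0, [], [13]),(2, 0, [], [13]),(0, 28, [], []),(1, 28, [12], []),(2, 0, [], [13,16]),(2, 0, [], [13,16]),
  (0, 29, [], []),(1, 29, [6], [14,15,16]),(2, 0, [], [13,14,15]),(2, 0, [], [13,14,15]),(0, 30, [], []),(1, 30,
   [8], [16]),(2, 0, [], [13,14,15,16]),(2, 0, [], [13,14,15,16]),(2, 0, [], [13]),(2, 0, [], [13]),(0, 31, [],
   []),(1, 31, [3], [16])],[(0, 0, [], []),(1, 0, [13], [16]),(2, 0, [], [14,16]),(2, 0, [], [14,16]),(0, 1, [],
   []),(1, 1, [2], []),(2, 0, [], [14,16]),(2, 0, [], [14,16]),(0, 2, [], []),(1, 2, [13], [16]),(2, 0, [], [14,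
  16]),(2, 0, [], [14,16]),(0, 3, [], []),(0, 4, [], []),(0, 5, [], []),(1, 5, [0], [16]),(0, 6, [], []),(1, 6,
   [2], []),(0, 7, [], []),(1, 7, [5,7,8,5,6,8], []),(0, 8, [], []),(1, 8, [2], []),(0, 9, [], []),(1, 9, [4],
   [16]),(0, 10, [], []),(1, 10, [0], [16]),(2, 0, [], [14]),(2, 0, [], [14]),(0, 11, [], []),(1, 11, [12], []),
  (2, 0, [], [14]),(2, 0, [], [14]),(0, 12, [], []),(1, 12, [4], [16]),(2, 0, [], [14]),(2, 0, [], [14]),(0, 13,
   [], []),(1, 13, [12], []),(2, 0, [], [14]),(2, 0, [], [14]),(0, 14, [], []),(1, 14, [4], [16]),(2, 0, [],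
   [14,16]),(2, 0, [], [14,16]),(2, 0, [], [14,16]),(2, 0, [], [14,16]),(0, 15, [], []),(1, 15, [4], [16]),(0,
   16, [], []),(1, 16, [3], [15,16]),(0, 17, [], []),(0, 18, [], []),(0, 19, [], []),(1, 19, [3], [15,16]),(0,
   20, [], []),(1, 20, [5,6,7,8], [15,16]),(0, 21, [], []),(1, 21, [3], [15,16]),(2, 0, [], [14,15]),(2, 0, [],
   [14,15,16]),(2, 0, [], [14,15,16]),(2, 0, [], [14,15]),(0, 22, [], []),(1, 22, [10], [15])],[(0, 0, [], []),
  (0, 1, [], []),(0, 2, [], []),(0, 3, [], []),(0, 4, [], []),(0, 5, [], []),(0, 6, [], []),(0, 7, [], []),(0,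
   8, [], []),(0, 9, [], []),(0, 10, [], []),(0, 11, [], []),(0, 12, [], []),(0, 13, [], []),(0, 14, [], []),(0,
   15, [], []),(0, 16, [], []),(0, 17, [], []),(0, 18, [], []),(0, 19, [], []),(0, 20, [], []),(0, 21, [], []),
  (0, 22, [], []),(0, 23, [], []),(0, 24, [], []),(0, 25, [], []),(0, 26, [], []),(0, 27, [], []),(0, 28, [],
   []),(0, 29, [], []),(0, 30, [], []),(0, 31, [], []),(0, 32, [], []),(0, 33, [], []),(0, 34, [], []),(0, 35,
   [], []),(0, 36, [], []),(0, 37, [], []),(0, 38, [], []),(0, 39, [], []),(0, 40, [], []),(0, 41, [], []),(0,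
   42, [], []),(0, 43, [], []),(0, 44, [], []),(0, 45, [], [])],[(0, 0, [], []),(0, 1, [], []),(0, 2, [], []),
  (1, 2, [0], []),(0, 3, [], []),(1, 3, [2,13], []),(0, 4, [], []),(1, 4, [0], []),(0, 5, [], []),(1, 5, [5,8,9,
  5,6,13,8,10,13], []),(0, 6, [], []),(1, 6, [13,8,6,13,10,8,13], []),(0, 7, [], []),(1, 7, [10], []),(2, 0, [],
   [16]),(2, 0, [], [16]),(0, 8, [], []),(1, 8, [1], []),(2, 0, [], [16]),(2, 0, [], [16]),(0, 9, [], []),(1, 9,
   [2], []),(2, 0, [], [16]),(2, 0, [], [16]),(0, 10, [], []),(1, 10, [10], []),(2, 0, [], [16]),(2, 0, [],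
   [16]),(0, 11, [], []),(1, 11, [10], []),(2, 0, [], [16]),(2, 0, [], [16]),(0, 12, [], []),(1, 12, [10], []),
  (2, 0, [], [16]),(2, 0, [], [16]),(0, 13, [], []),(1, 13, [5], []),(2, 0, [], [16]),(2, 0, [], [16]),(2, 0,
   [], [16]),(2, 0, [], [16]),(0, 14, [], []),(1, 14, [2], []),(0, 15, [], []),(1, 15, [2], []),(2, 0, [],
   [16]),(2, 0, [], [16]),(0, 16, [], []),(1, 16, [13], []),(2, 0, [], [16]),(2, 0, [], [16]),(0, 17, [], []),
  (1, 17, [13], []),(2, 0, [], [16]),(2, 0, [], [16]),(2, 0, [], [16]),(2, 0, [], [16]),(0, 18, [], []),(1, 18,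
   [2], []),(2, 0, [], [16]),(2, 0, [], [16]),(0, 19, [], []),(1, 19, [5], []),(0, 20, [], []),(1, 20, [6], []),
  (2, 0, [], [16]),(2, 0, [], [16]),(2, 0, [], [16]),(2, 0, [], [16]),(0, 21, [], []),(1, 21, [1], []),(0, 22,
   [], []),(1, 22, [5], []),(2, 0, [], [16]),(2, 0, [], [16]),(2, 0, [], [16]),(2, 0, [], [16]),(0, 23, [], []),
  (1, 23, [10], []),(0, 24, [], []),(1, 24, [10], []),(2, 0, [], [16]),(2, 0, [], [16]),(2, 0, [], [16]),(2, 0,
   [], [16]),(0, 25, [], []),(1, 25, [1], []),(0, 26, [], []),(1, 26, [5], []),(2, 0, [], [16]),(2, 0, [],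
   [16])]]

/-- The reductions to the three representatives. -/
def fusion : List (Nat × List Nat) :=
  [(0, []),(2, [869,7,1345,165,274,5,11,62,120]),(1, [5,11,221,353]),(1, [5,11]),(2, [869,7,1345,165,274,5,11]),
  (1, []),(2, [869,7,1345,165,274]),(2, [869,7,1345,165,274,5,11,62,120,176]),(0, [779]),(2, [869,7,1345,165,
  274,5,11,938,176]),(1, [5,11,2166,910]),(1, [5,11,2166,910,26,10]),(2, [869,7,1345]),(0, [869]),(2, [869,7,
  1345,165,274,5,11,62,120,176,527,7]),(2, [869,7,1345,165,274,5,11,62,120,176,634,205]),(2, [869]),(1, [869]),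
  (2, [869,7,1345,165,274,5,11,62,120,176,320,0]),(2, [869,7,1345,165,274,5,11,62,120,3182]),(2, [869,7,1345,
  165,274,5,11,938,176,8]),(0, [779,366]),(2, [869,7,1345,165,274,5,11,62,120,176,320,0,981]),(2, [869,7,1345,
  165,274,5,11,62,120,176,320,0,981,775,144]),(1, [5,11,2166,910,26,10,2966,904]),(2, [869,7,1345,165,274,5,11,
  62,120,176,320,0,152]),(2, [869,7,1345,165,274,5,11,62,120,3182,2868,394])]

/-- Commuting points fixed by the lower part. -/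
def bpts : List Nat :=
  [0,6,40,92,97,118,154,246,274,308,636,676,679,689,708,1347,1361,1396,2125,2179,3399,3400]

/-- The points fixed by the second automorphism. -/
def fix1 : List Nat :=
  [0,6,10,16,17,26,28,40,41,45,62,63,88,89,92,120,154,184,215,230,232,267,270,272,291,292,336,338,339,341,343,
  369,370,392,425,427,428,430,431,434,435,472,473,540,542,545,550,637,676,792,827,988,989,1165,1166,1347,1348,
  1349,1524,1526,1707,1708,1912,2125]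

/-- The points fixed by the third, with partners and vectors. -/
def fix2 : List (Nat × Nat × Nat) :=
  [(0, 6, 16),(6, 0, 16),(40, 154, 10),(62, 120, 28),(88, 89, 22),(89, 88, 22),(92, 676, 11),(120, 62, 28),(154,
   40, 10),(291, 430, 18),(338, 369, 24),(369, 338, 24),(370, 545, 25),(392, 542, 5),(427, 472, 14),(430, 291,
   18),(431, 473, 19),(434, 637, 20),(472, 427, 14),(473, 431, 19),(542, 392, 5),(545, 370, 25),(550, 792, 31),
  (573, 791, 33),(637, 434, 20),(639, 721, 49),(676, 92, 11),(721, 639, 49),(791, 573, 33),(792, 550, 31),(1347,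
   2125, 17),(1524, 1912, 7),(1705, 2127, 47),(1707, 1708, 13),(1708, 1707, 13),(1904, 1907, 63),(1907, 1904,
   63),(1910, 2365, 57),(1911, 2367, 36),(1912, 1524, 7),(2125, 1347, 17),(2127, 1705, 47),(2130, 2132, 41),
  (2131, 2134, 52),(2132, 2130, 41),(2134, 2131, 52),(2135, 2136, 51),(2136, 2135, 51),(2137, 2611, 50),(2365,
   1910, 57),(2367, 1911, 36),(2368, 2369, 35),(2369, 2368, 35),(2370, 2372, 34),(2372, 2370, 34),(2376, 2377,
   56),(2377, 2376, 56),(2611, 2137, 50),(2615, 2616, 40),(2616, 2615, 40),(3096, 3165, 48),(3165, 3096, 48),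
  (3273, 3277, 32),(3276, 3328, 38),(3277, 3273, 32),(3282, 3369, 60),(3328, 3276, 38),(3369, 3282, 60),(3401,
   3403, 54),(3402, 3404, 44),(3403, 3401, 54),(3404, 3402, 44)]

/-- Six points with independent vectors. -/
def six : List Nat :=
  [392,92,1524,370,3273,2135]

/-- Points with parents and steps from the six. -/
def tree2 : List (Nat × Nat × Nat) :=
  [(472, 392, 92),(62, 392, 370),(3403, 392, 2135),(291, 92, 370),(2376, 92, 2135),(2134, 1524, 2135),(2365,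
   370, 3273),(431, 3273, 2135),(3282, 62, 3273),(1705, 62, 2135),(721, 3403, 1524),(89, 3403, 3273),(2611, 291,
   3273),(573, 291, 2135),(1907, 2376, 1524),(338, 2376, 3273),(637, 2134, 3273),(154, 2365, 2135),(1911, 1705,
   92),(2616, 1705, 1524),(2125, 721, 3273),(3276, 573, 1524),(792, 1907, 3273),(1708, 637, 370),(2369, 1911,
   1524),(2370, 2125, 2135),(3402, 792, 2135),(6, 2369, 2135),(2130, 2370, 92),(3165, 6, 3273)]

/-- Words exchanging one of the six with its partner. -/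
def flips : List (List Nat) :=
  [[40,154,573,791],[40,154,1705,2127],[40,154,3273,3277],[88,89,639,721],[0,6,1524,1912],[1524,1912]]

/-- Probes for the generating points outside the fixed ones. -/
def sep : List (Nat × Nat × List Nat) :=
  [(2, 3, [40,62,89,92,291,639]),(16, 10, [0,88,120,92,369,6]),(43, 424, [0,1911,6,40,62,291])]

/-- Points without a common neighbour. -/
def noCommon : List Nat :=
  [0,573,6,40,62,92,291]

/-- The unit vectors in terms of the eight. -/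
def sub8 : List (List Nat) :=
  [[1,5],[2,4],[0,2],[0,2,4,6],[0,1,5],[2,4,5],[0,2,3],[5,7]]

/-- The unit vectors in terms of the six. -/
def sub6 : List (List Nat) :=
  [[1,3,4,5],[0,2],[0,1,3,4,5],[0,2,3,4,5],[0,1,2,3],[4]]

end Cfsg.Agent.M22Outer
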