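import Cfsg.Agent.M22Local.Base
import Cfsg.Agent.M22O8.Check
import Cfsg.Agent.M22PairAut.Check
import Cfsg.Agent.M22Outer.Data

/-!
# Definitions for the finite checks for the outer involutions of a group of type M(22)
-/

set_option autoImplicit false
set_option Elab.async false

namespace Cfsg.Agent.M22Outer

open Cfsg.Agent.CosetCert Cfsg.Agent.CosetCert.Fi22U62 Cfsg.Agent.Fi22Out Cfsg.Agent.M22Local
open Cfsg.Agent.M22PairAut (bet sgp)
open Cfsg.Agent.M22O8 (inU pv uc e8)

/-- A word of the generators of the 2-group. -/
def xw (l : List Nat) : List Nat := l.flatMap fun j => xs.getD j []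

/-- All indices lie strictly between. -/
noncomputable def inb (l : Nat) (z : List Nat) : Bool := z.all fun t => Nat.blt l t && Nat.blt t 17

/-- The certificate of a conjugate. -/
noncomputable def cjOk (l j : Nat) : Bool :=
  eqW ((xw [j]).reverse ++ xw [l] ++ xw [j]) (xw (l :: (cjs.getD l []).getD j [])) &&
    inb l ((cjs.getD l []).getD j [])

/-- The certificate of an image and of a square. -/
noncomputable def genOk (l : Nat) : Bool :=
  (eqW ((xw [l]).map bet) (xw (l :: bzs.getD l [])) && inb l (bzs.getD l [])) &&
    (eqW (xw [l] ++ xw [l]) (xw (sqs.getD l [])) && inb l (sqs.getD l []))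

/-- The increasing lists within `j, …, j + n - 1`. -/
noncomputable def subs : Nat → Nat → List (List Nat) :=
  fun j n => Nat.rec (motive := fun _ => Nat → List (List Nat)) (fun _ => [[]])
    (fun _ ih j => ih (Nat.succ j) ++ (ih (Nat.succ j)).map (fun s => j :: s)) n j

/-- A generator of the upper part moves a point differently from all later products. -/
noncomputable def sepHi (l : Nat) : Bool :=
  (subs (l + 1) (6 - l)).all fun s => bpts.any fun q =>
    !(Nat.beq (img (xw [l]).reverse q) (img (xw s).reverse q))

/-- A generator of the lower part is none of the later products. -/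
noncomputable def sepLo (l : Nat) : Bool :=
  (subs (l + 1) (16 - l)).all fun s => !(eqW (xw [l]) (xw s))

/-- Equality of lists. -/
noncomputable def lEq (a b : List Nat) : Bool :=
  List.rec (motive := fun _ => List Nat → Bool) (fun b => b.isEmpty)
    (fun x _ ih b => List.rec (motive := fun _ => Bool) false (fun y t _ => Nat.beq x y && ih t) b) a b

/-- One reduction. -/
noncomputable def recOk (i : Nat) (c : List Nat) (e : Nat × Nat × List Nat × List Nat) : Bool :=
  match e with
  | (0, d, _, _) => Nat.blt d (rts.getD (i + 1) []).length && lEq c ((rts.getD (i + 1) []).getD d [])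
  | (1, d, u, z) => (Nat.blt d (rts.getD (i + 1) []).length && u.all (fun t => Nat.blt t 17) &&
      inb i z) && eqW ((xw u).map bet ++ xw ((rts.getD (i + 1) []).getD d []) ++ (xw u).reverse)
        (xw (c ++ z))
  | (_, _, _, h :: t) => (Nat.ble h i && inb h t) && eqW ((xw c).map bet ++ xw c) (xw (h :: t))
  | (_, _, _, []) => false

/-- The children of the representatives of one level. -/
def kids (i : Nat) : List (List Nat) := (rts.getD i []).flatMap fun r => [r, r ++ [i]]

/-- The reductions of one level. -/
noncomputable def levelOk (i : Nat) : Bool :=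
  Nat.beq (kids i).length (cert.getD i []).length &&
    ((kids i).zip (cert.getD i [])).all fun p => recOk i p.1 p.2

/-- The three representatives. -/
def rep3 (r : Nat) : List Nat := [[], [0], [0, 6]].getD r []

/-- The last reduction. -/
noncomputable def fusionOk : Bool :=
  Nat.beq (rts.getD 17 []).length fusion.length &&
    ((rts.getD 17 []).zip fusion).all fun p => Nat.blt p.2.1 3 && p.2.2.all (fun q => Nat.blt q 3510) &&
      eqW (p.2.2.map bet ++ xw p.1 ++ p.2.2.reverse) (rep3 p.2.1)

/-- Sum of masks. -/
noncomputable def xr (a b : Nat) : Nat := Nat.xor a b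

/-- A fixed point of the outer automorphism lies among the 360. -/
noncomputable def fix0P (q : Nat) : Bool := !(Nat.beq (bet q) q) || inU q

/-- A fixed point of the second automorphism is listed. -/
noncomputable def fix1P (q : Nat) : Bool :=
  !(Nat.beq (bet (img [0] q)) q) || fix1.any fun p => Nat.beq p q

/-- A fixed point of the third automorphism is listed. -/
noncomputable def fix2P (q : Nat) : Bool :=
  !(Nat.beq (bet (img [6, 0] q)) q) || fix2.any fun p => Nat.beq p.1 q

/-- The word exchanging the points of a set among the six. -/
def flip (b : Fin 6 → Bool) : List Nat :=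
  (List.finRange 6).flatMap fun k => cond (b k) (flips.getD k []) []

end Cfsg.Agent.M22Outer
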