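import Cfsg.Agent.ThreeTrans.OrthCohom
import Cfsg.Agent.Classical.SympGroup
import Cfsg.Agent.Classical.OrthSpinor

/-!
# The centraliser of a reflection in O8+(2)
-/

set_option autoImplicit false

namespace Cfsg.Agent.M22Outer

open QuadraticMap Matrix Cfsg.Agent.Classical Cfsg.Agent.Classical.Quad
open Cfsg.Agent.ThreeTrans.OrthCohom

/-- The space of dimension eight. -/
abbrev U8 : Type := Fin 4 ⊕ Fin 4 → ZMod 2

/-- The space of dimension six. -/
abbrev U6 : Type := Fin 3 ⊕ Fin 3 → ZMod 2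

/-- The vector of the reflection. -/
def va : U8 := Sum.elim (Pi.single 0 1) (Pi.single 0 1)

/-- An isotropic vector not orthogonal to it. -/
def vd : U8 := Sum.elim (Pi.single 0 1) 0

/-- The inclusion of the last three planes. -/
def inc : U6 →ₗ[ZMod 2] U8 where
  toFun w := Sum.elim (Fin.cons 0 fun i => w (Sum.inl i)) (Fin.cons 0 fun i => w (Sum.inr i))
  map_add' u v := by
    funext i; rcases i with i | i <;> refine Fin.cases ?_ (fun j => ?_) i <;> simp
  map_smul' c v := by
    funext i; rcases i with i | i <;> refine Fin.cases ?_ (fun j => ?_) i <;> simp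

/-- The projection to the last three planes. -/
def proj6 : U8 →ₗ[ZMod 2] U6 := LinearMap.funLeft _ _ (Sum.map Fin.succ Fin.succ)

theorem polar_sum (x y : U8) : polar (qP 4) x y =
    x (.inl 0) * y (.inr 0) + x (.inr 0) * y (.inl 0) + sympB 3 (ZMod 2) (proj6 x) (proj6 y) := by
  rw [sympB_eq_sum]
  simp only [polar, qP, QuadraticMap.add_apply, QuadraticMap.zero_apply, linMulLin_apply, LinearMap.proj_apply, Pi.add_apply,
    proj6, LinearMap.funLeft_apply, Sum.map_inl, Sum.map_inr, Fin.sum_univ_succ, Fin.sum_univ_zero]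
  simp only [sub_eq_add_neg, ZModModule.neg_eq_self]
  ring_nf
  reduce_mod_char

theorem proj_inc (w : U6) : proj6 (inc w) = w := by
  funext i; rcases i with i | i <;> simp [proj6, inc]

theorem inc_zero_coords (w : U6) : inc w (.inl 0) = 0 ∧ inc w (.inr 0) = 0 := by simp [inc]

theorem decomp (x : U8) :
    x = inc (proj6 x) + x (.inr 0) • va + (x (.inl 0) + x (.inr 0)) • vd := by
  funext i
  rcases i with i | i <;> refine Fin.cases ?_ (fun j => ?_) i <;>
    simp [inc, proj6, va, vd, Fin.succ_ne_zero]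
  rw [add_comm (x (.inl 0)), ← add_assoc, ← two_mul]
  simp [show (2 : ZMod 2) = 0 from rfl]

theorem qP_va : qP 4 va = 1 := by rw [qP_coe]; decide +kernel

theorem va_ne : qP 4 va ≠ 0 := by rw [qP_va]; exact one_ne_zero

theorem polar_va (x : U8) : polar (qP 4) x va = x (.inl 0) + x (.inr 0) := by
  rw [polar_sum, show proj6 va = 0 from by
    funext i; rcases i with i | i <;> simp [proj6, va, Fin.succ_ne_zero]]
  simp [va]

theorem rO_inj {u v : U8} (hu : qP 4 u ≠ 0) (hv : qP 4 v ≠ 0) (h : rO hu = rO hv) : u = v := by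
  have hu0 : u ≠ 0 := fun h0 => hu (by rw [h0, QuadraticMap.map_zero])
  obtain ⟨x, hx⟩ : ∃ x, polar (qP 4) x u ≠ 0 := by
    by_contra hc
    simp only [not_exists, not_not] at hc
    exact hu0 (nondegP4.1 u fun y => by
      show polar (qP 4) u y = 0
      rw [polar_comm]; exact hc y)
  have h1 := congrArg (fun f : oG (qP 4) => f.1 x) h
  simp only [rO_apply, sub_right_inj] at h1
  rw [(ThreeTrans.OrthTwo.z2 _).resolve_left hx, (ThreeTrans.OrthTwo.z2 _).resolve_left hu,
    (ThreeTrans.OrthTwo.z2 _).resolve_left hv, div_one, div_one, one_smul] at h1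
  rcases ThreeTrans.OrthTwo.z2 (polar (qP 4) x v) with h2 | h2
  · rw [h2, zero_smul] at h1; exact absurd h1 hu0
  · rwa [h2, one_smul] at h1

theorem conj_refl (f : oG (qP 4)) {u : U8} (hu : qP 4 u ≠ 0) :
    f * rO hu * f⁻¹ = rO (show qP 4 (f.1 u) ≠ 0 by rw [f.2 u]; exact hu) := by
  refine ext_oG fun y => ?_
  obtain ⟨x, rfl⟩ : ∃ x, f.1 x = y := ⟨f.1.symm y, f.1.apply_symm_apply y⟩
  rw [oG_mul_apply, oG_mul_apply, oG_inv_apply, rO_apply, rO_apply, map_sub, map_smul,
    polar_eq_of_mem f.2, f.2]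

/-- The centraliser of the reflection. -/
noncomputable def Ca : Subgroup (oG (qP 4)) := Subgroup.centralizer {rO va_ne}

theorem mem_Ca {f : oG (qP 4)} : f ∈ Ca ↔ f.1 va = va := by
  rw [Ca, Subgroup.mem_centralizer_singleton_iff]
  constructor
  · intro h
    refine rO_inj (by rw [f.2 va]; exact va_ne) va_ne ?_
    rw [← conj_refl f va_ne, mul_inv_eq_iff_eq_mul]
    exact h
  · intro h
    rw [← mul_inv_eq_iff_eq_mul, conj_refl f va_ne]
    congr 1

theorem coords_of_Ca {f : oG (qP 4)} (hf : f ∈ Ca) (w : U6) :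
    f.1 (inc w) (.inl 0) = f.1 (inc w) (.inr 0) := by
  have h : polar (qP 4) (f.1 (inc w)) va = 0 := by
    conv_lhs => rw [← mem_Ca.1 hf]
    rw [polar_eq_of_mem f.2, polar_va, (inc_zero_coords w).1, (inc_zero_coords w).2, add_zero]
  rwa [polar_va, CharTwo.add_eq_zero] at h

/-- The map induced on the orthogonal space modulo the vector. -/
def redLin (f : oG (qP 4)) : U6 →ₗ[ZMod 2] U6 := proj6.comp (f.1.toLinearMap.comp inc)

theorem redLin_symp {f : oG (qP 4)} (hf : f ∈ Ca) (u v : U6) :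
    sympB 3 (ZMod 2) (redLin f u) (redLin f v) = sympB 3 (ZMod 2) u v := by
  have h := polar_eq_of_mem f.2 (inc u) (inc v)
  rw [polar_sum, polar_sum, proj_inc, proj_inc, coords_of_Ca hf u, coords_of_Ca hf v,
    (inc_zero_coords u).1, (inc_zero_coords u).2, CharTwo.add_self_eq_zero] at h
  simpa [redLin] using h

theorem proj_va : proj6 va = 0 := by
  funext i; rcases i with i | i <;> simp [proj6, va, Fin.succ_ne_zero]

theorem redLin_mul {f h : oG (qP 4)} (hf : f ∈ Ca) (hh : h ∈ Ca) (w : U6) :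
    redLin (f * h) w = redLin f (redLin h w) := by
  show proj6 ((f * h).1 (inc w)) = proj6 (f.1 (inc (proj6 (h.1 (inc w)))))
  have hx := decomp (h.1 (inc w))
  rw [coords_of_Ca hh w, CharTwo.add_self_eq_zero, zero_smul, add_zero] at hx
  rw [oG_mul_apply]
  conv_lhs => rw [hx]
  rw [map_add f.1, map_smul f.1, mem_Ca.1 hf, map_add, map_smul, proj_va, smul_zero, add_zero]

theorem redMat_mem {f : oG (qP 4)} (hf : f ∈ Ca) :
    LinearMap.toMatrix' (redLin f) ∈ Matrix.symplecticGroup (Fin 3) (ZMod 2) := by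
  rw [mem_symplectic_iff]
  intro u v
  rw [LinearMap.toMatrix'_mulVec, LinearMap.toMatrix'_mulVec]
  exact redLin_symp hf u v

/-- Reduction to the symplectic group. -/
noncomputable def red : ↥Ca →* Matrix.symplecticGroup (Fin 3) (ZMod 2) :=
  MonoidHom.mk' (fun f => ⟨LinearMap.toMatrix' (redLin f.1), redMat_mem f.2⟩) fun f h => by
    refine Subtype.ext ?_
    show LinearMap.toMatrix' (redLin (f.1 * h.1)) =
      LinearMap.toMatrix' (redLin f.1) * LinearMap.toMatrix' (redLin h.1)
    rw [← LinearMap.toMatrix'_comp]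
    exact congrArg _ (LinearMap.ext fun w => redLin_mul f.2 h.2 w)

theorem red_surjective : Function.Surjective red := by
  rw [← MonoidHom.range_eq_top, ← top_le_iff, ← closure_sympTransvection, Subgroup.closure_le]
  rintro M ⟨w, c, hM⟩
  rcases ThreeTrans.OrthTwo.z2 c with rfl | rfl
  · have h1 : M = 1 := Subtype.ext (by rw [hM]; simp [Cfsg.sympTransvection])
    exact h1 ▸ one_mem _
  set u : U8 := inc w + (qP 4 (inc w) + 1) • va with hu
  have hpw : polar (qP 4) (inc w) va = 0 := by
    rw [polar_va, (inc_zero_coords w).1, (inc_zero_coords w).2, add_zero]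
  have hQu : qP 4 u = 1 := by
    rw [hu, map_add_smul, hpw, mul_zero, add_zero, qP_va, mul_one]
    generalize qP 4 (inc w) = q
    revert q; decide
  have hne : qP 4 u ≠ 0 := by rw [hQu]; exact one_ne_zero
  have hua : polar (qP 4) va u = 0 := by
    rw [hu, polar_add_right, polar_smul_right, smul_eq_mul, polar_comm _ va (inc w), hpw,
      polar_self', show (2 : ZMod 2) = 0 from rfl, zero_mul, mul_zero, add_zero]
  have hmem : rO hne ∈ Ca := mem_Ca.2 (by rw [rO_apply, hua, zero_div, zero_smul, sub_zero])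
  refine ⟨⟨_, hmem⟩, Subtype.ext ?_⟩
  rw [hM]
  refine Matrix.ext_of_mulVec_single fun i => ?_
  show LinearMap.toMatrix' (redLin (rO hne)) *ᵥ _ = _
  rw [LinearMap.toMatrix'_mulVec, sympTransvection_mulVec, one_mul]
  show proj6 ((rO hne).1 (inc (Pi.single i 1))) = _
  rw [rO_apply, hQu, div_one, map_sub, map_smul, proj_inc,
    show proj6 u = w by rw [hu, map_add, map_smul, proj_inc, proj_va, smul_zero, add_zero],
    sub_eq_add_neg, ← neg_smul, ZModModule.neg_eq_self, polar_sum, proj_inc,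
    (inc_zero_coords _).1, (inc_zero_coords _).2,
    show proj6 u = w by rw [hu, map_add, map_smul, proj_inc, proj_va, smul_zero, add_zero]]
  simp

theorem red_ker {f : ↥Ca} (h : red f = 1) : f.1 = 1 ∨ f.1 = rO va_ne := by
  have hf := f.2
  have hred : ∀ w, proj6 (f.1.1 (inc w)) = w := by
    intro w
    have h1 := congrArg (fun M : Matrix.symplecticGroup (Fin 3) (ZMod 2) => M.1 *ᵥ w) h
    simp only [OneMemClass.coe_one, Matrix.one_mulVec] at h1
    refine Eq.trans ?_ h1
    exact (LinearMap.toMatrix'_mulVec (redLin f.1) w).symm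
  have hinc : ∀ w, f.1.1 (inc w) = inc w := by
    intro w
    have hx := decomp (f.1.1 (inc w))
    rw [hred, coords_of_Ca hf w, CharTwo.add_self_eq_zero, zero_smul, add_zero] at hx
    have hQ := f.1.2 (inc w)
    rw [hx, map_add_smul, polar_va, (inc_zero_coords w).1, (inc_zero_coords w).2, add_zero, mul_zero,
      add_zero, qP_va, mul_one, add_eq_left] at hQ
    rw [hx, mul_self_eq_zero.1 hQ, zero_smul, add_zero]
  set y := f.1.1 vd
  have hd1 : y (.inl 0) + y (.inr 0) = 1 := by
    rw [← polar_va]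
    conv_lhs => rw [← mem_Ca.1 hf]
    rw [polar_eq_of_mem f.1.2, polar_va]
    simp [vd]
  have hpy : proj6 y = 0 := by
    refine sympB_nondeg.1 _ fun w => ?_
    have h1 := polar_eq_of_mem f.1.2 vd (inc w)
    rw [hinc, polar_sum, polar_sum, proj_inc, (inc_zero_coords w).1, (inc_zero_coords w).2,
      show proj6 vd = 0 from by funext i; rcases i with i | i <;> simp [proj6, vd, Fin.succ_ne_zero]] at h1
    simpa [y] using h1
  have hy := decomp y
  rw [hpy, map_zero, zero_add, hd1, one_smul] at hy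
  have hgen : ∀ x, f.1.1 x = inc (proj6 x) + x (.inr 0) • va + (x (.inl 0) + x (.inr 0)) • y := by
    intro x
    conv_lhs => rw [decomp x]
    rw [map_add f.1.1, map_add f.1.1, map_smul f.1.1, map_smul f.1.1, hinc, mem_Ca.1 hf]
  rcases ThreeTrans.OrthTwo.z2 (y (.inr 0)) with h0 | h0
  · left
    rw [h0, zero_smul, zero_add] at hy
    exact ext_oG fun x => by rw [hgen, hy, oG_one_apply, ← decomp]
  · right
    rw [h0, one_smul] at hy
    refine ext_oG fun x => ?_
    rw [hgen, hy, rO_apply, qP_va, div_one, polar_va, sub_eq_add_neg, ← neg_smul,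
      ZModModule.neg_eq_self, smul_add]
    rw [show ∀ u v w z : U8, u + v + (w + z) = (u + v + z) + w from fun _ _ _ _ => by abel,
      ← decomp x]

/-- The centraliser of a reflection of O8+(2). -/
theorem exists_Ca_iso : Nonempty (↥Ca ≃* Multiplicative (ZMod 2) × Cfsg.PSp 3 (ZMod 2)) := by
  have hex : Nat.card (ZMod 2) ≠ 2 ∨ Module.finrank (ZMod 2) U8 ≠ 4 := Or.inr (by simp)
  let sg : oG (qP 4) →* ℤˣ := MonoidHom.mk' dsign (dsign_mul nondegP4 hex)
  have hsr : sg (rO va_ne) = -1 := by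
    show dsign (rO va_ne) = -1
    rw [← one_mul (rO va_ne), dsign_mul_rO nondegP4, dsign_one]
  let φ : ↥Ca →* ℤˣ × Matrix.symplecticGroup (Fin 3) (ZMod 2) := (sg.comp Ca.subtype).prod red
  have hr : rO va_ne ∈ Ca := mem_Ca.2 (by
    rw [rO_apply, polar_self', show (2 : ZMod 2) = 0 from rfl, zero_mul, zero_div, zero_smul, sub_zero])
  have hrr : red ⟨_, hr⟩ = 1 := by
    refine Subtype.ext (Matrix.ext_of_mulVec_single fun i => ?_)
    show LinearMap.toMatrix' (redLin (rO va_ne)) *ᵥ _ = (1 : Matrix _ _ _) *ᵥ _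
    rw [LinearMap.toMatrix'_mulVec, Matrix.one_mulVec]
    show proj6 ((rO va_ne).1 (inc _)) = _
    rw [rO_apply, map_sub, map_smul, proj_va, smul_zero, sub_zero, proj_inc]
  have hφ : Function.Bijective φ := by
    refine ⟨(injective_iff_map_eq_one _).2 fun f hf => ?_, fun ⟨e, M⟩ => ?_⟩
    · rcases red_ker (Prod.ext_iff.1 hf).2 with h | h
      · exact Subtype.ext h
      · have h1 : sg f.1 = 1 := (Prod.ext_iff.1 hf).1
        rw [h, hsr] at h1
        exact absurd h1 (by decide)
    · obtain ⟨f, rfl⟩ := red_surjective M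
      rcases Int.units_eq_one_or (sg f.1) with h | h <;> rcases Int.units_eq_one_or e with rfl | rfl
      · exact ⟨f, Prod.ext h rfl⟩
      · exact ⟨f * ⟨_, hr⟩, Prod.ext (by simp [φ, h, hsr]) (by simp [φ, hrr])⟩
      · exact ⟨f * ⟨_, hr⟩, Prod.ext (by simp [φ, h, hsr]) (by simp [φ, hrr])⟩
      · exact ⟨f, Prod.ext h rfl⟩
  have : Fact (Nat.Prime 2) := ⟨Nat.prime_two⟩
  have e2 : ℤˣ ≃* Multiplicative (ZMod 2) :=
    mulEquivOfPrimeCardEq (p := 2) (by simp) (by simp)
  have hc : Subgroup.center (Matrix.symplecticGroup (Fin 3) (ZMod 2)) = ⊥ := by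
    refine Subgroup.eq_bot_of_card_eq _ ?_
    rw [card_center_symplectic (by norm_num), ZMod.card]; rfl
  have e6 : Matrix.symplecticGroup (Fin 3) (ZMod 2) ≃* Cfsg.PSp 3 (ZMod 2) :=
    (QuotientGroup.quotientBot.symm).trans (QuotientGroup.quotientMulEquivOfEq hc.symm)
  exact ⟨(MulEquiv.ofBijective φ hφ).trans (e2.prodCongr e6)⟩

end Cfsg.Agent.M22Outer
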