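import Cfsg.Agent.M22Outer.Classify
import Cfsg.Agent.M22Outer.SpSix

/-!
# Fixed members and fixed groups
-/

set_option autoImplicit false

namespace Cfsg.Agent.M22Outer

open Cfsg.Agent.CosetCert Cfsg.Agent.CosetCert.Fi22U62 Cfsg.Agent.Fi22Out Cfsg.Agent.M22Local
open Cfsg.Agent.Fi22Trans (G t)
open Cfsg.Agent.M22PairAut (bet sgp)
open Cfsg.Agent.M22O8 (Ctx cen_eq_one img_lt T_inj' fixN exists_pt pv uc vv O8S3 commute_conj_iff)
open QuadraticMap Cfsg.Agent.Classical.Quad Cfsg.Agent.ThreeTrans.OrthCohom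

/-- The transpositions fixed by an automorphism. -/
def mset (τ : MulAut G) : Set G := {d | IsConj t d ∧ τ d = d}

theorem members_map (α : MulAut G) {d : G} (hd : IsConj t d) : IsConj t (α d) :=
  (isConj_apply α).trans (α.toMonoidHom.map_isConj hd)

theorem ncard_mset {τ τ' : MulAut G} (h : IsConj τ τ') : (mset τ).ncard = (mset τ').ncard := by
  obtain ⟨α, hα⟩ := isConj_iff.1 h
  have e : mset τ' = α '' mset τ := by
    ext d
    constructor
    · intro ⟨hd, hd'⟩
      refine ⟨α.symm d, ⟨members_map _ hd, ?_⟩, α.apply_symm_apply d⟩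
      apply α.injective
      rw [α.apply_symm_apply, ← hα] at *
      exact hd'
    · rintro ⟨d, ⟨hd, hd'⟩, rfl⟩
      refine ⟨members_map _ hd, ?_⟩
      rw [← hα]
      show α (τ (α.symm (α d))) = α d
      rw [α.symm_apply_apply, hd']
  rw [e, Set.ncard_image_of_injective _ α.injective]

variable (A : Act)
include A

/-- A composite applied to a transposition. -/
theorem comp_T {β : MulAut G} (hβ : IsBet β) (c : List Nat) {q : Nat} (hq : q < 3510) :
    (β * MulAut.conj (lp c)) (T q) = T (bet (img c.reverse q)) := by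
  rw [MulAut.mul_apply, MulAut.conj_apply, conj_word A c hq, hβ _ (img_lt A _ hq)]

theorem mset_eq (τ : MulAut G) (L : List Nat) (hlt : ∀ q ∈ L, q < 3510 ∧ τ (T q) = T q)
    (hcov : ∀ q, q < 3510 → τ (T q) = T q → q ∈ L) (hnd : L.Nodup) :
    (mset τ).ncard = L.length := by
  have e : mset τ = T '' (L.toFinset : Set Nat) := by
    ext d
    constructor
    · intro ⟨hd, hd'⟩
      obtain ⟨q, rfl⟩ := A.exists_point hd
      exact ⟨q, List.mem_toFinset.2 (hcov q q.2 hd'), rfl⟩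
    · rintro ⟨q, hq, rfl⟩
      exact ⟨Act.isConj_T q, (hlt q (List.mem_toFinset.1 hq)).2⟩
  rw [e, Set.InjOn.ncard_image fun p hp q hq h => T_inj' A (hlt p (List.mem_toFinset.1 hp)).1
    (hlt q (List.mem_toFinset.1 hq)).1 h, Set.ncard_coe_finset, List.toFinset_card_of_nodup hnd]

theorem card_mset0 {β : MulAut G} (hβ : IsBet β) : (mset β).ncard = 360 := by
  rw [mset_eq A β (uc.map Prod.fst) ?_ ?_ M22O8.uc_nodup, List.length_map]
  · decide +kernel
  · intro q hq
    obtain ⟨u, hu, rfl⟩ := List.mem_map.1 hq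
    exact ⟨M22O8.uc_lt hu, uc_fix A hβ hu⟩
  · intro q hq h
    obtain ⟨u, hu, rfl⟩ := uc_of_fixed A hβ hq h
    exact List.mem_map.2 ⟨u, hu, rfl⟩

theorem fix1_mem {β : MulAut G} (hβ : IsBet β) {q : Nat} :
    (q ∈ fix1 → q < 3510 ∧ (β * MulAut.conj (lp [0])) (T q) = T q ∧ fix 0 q = true) ∧
    (q < 3510 → (β * MulAut.conj (lp [0])) (T q) = T q → q ∈ fix1) := by
  constructor
  · intro hq
    have h := fix1_ok
    rw [Bool.and_eq_true] at h
    have h1 := List.all_eq_true.1 h.1 q hq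
    simp only [Bool.and_eq_true] at h1
    have hlt : q < 3510 := Nat.ble_eq.mp h1.1.1
    refine ⟨hlt, ?_, h1.2⟩
    rw [comp_T A hβ _ hlt, List.reverse_singleton, Nat.eq_of_beq_eq_true h1.1.2]
  · intro hq h
    rw [comp_T A hβ _ hq, List.reverse_singleton] at h
    have h1 := fix1_cover hq
    rw [fix1P, T_inj' A (bet_lt A _) hq h, Nat.beq_refl, Bool.not_true, Bool.false_or,
      List.any_eq_true] at h1
    obtain ⟨p, hp, hpq⟩ := h1
    exact Nat.eq_of_beq_eq_true hpq ▸ hp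

theorem card_mset1 {β : MulAut G} (hβ : IsBet β) : (mset (β * MulAut.conj (lp [0]))).ncard = 64 := by
  rw [mset_eq A _ fix1 (fun q hq => ⟨((fix1_mem A hβ).1 hq).1, ((fix1_mem A hβ).1 hq).2.1⟩)
    (fun q => (fix1_mem A hβ).2) fix1_nodup]
  decide +kernel

theorem fix2_mem {β : MulAut G} (hβ : IsBet β) {e : Nat × Nat × Nat} (he : e ∈ fix2) :
    e.1 < 3510 ∧ e.2.2 < 64 ∧ (β * MulAut.conj (lp [0, 6])) (T e.1) = T e.1 := by
  have h1 := List.all_eq_true.1 fix2_ok e he
  simp only [Bool.and_eq_true] at h1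
  have hlt : e.1 < 3510 := Nat.ble_eq.mp h1.1.1
  refine ⟨hlt, Nat.ble_eq.mp h1.1.2, ?_⟩
  rw [comp_T A hβ _ hlt, show ([0, 6] : List Nat).reverse = [6, 0] from rfl,
    Nat.eq_of_beq_eq_true h1.2]

theorem fix2_exists {β : MulAut G} (hβ : IsBet β) {q : Nat} (hq : q < 3510)
    (h : (β * MulAut.conj (lp [0, 6])) (T q) = T q) : ∃ e ∈ fix2, e.1 = q := by
  rw [comp_T A hβ _ hq, show ([0, 6] : List Nat).reverse = [6, 0] from rfl] at h
  have h1 := fix2_cover hq
  rw [fix2P, T_inj' A (bet_lt A _) hq h, Nat.beq_refl, Bool.not_true, Bool.false_or,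
    List.any_eq_true] at h1
  obtain ⟨e, he, heq⟩ := h1
  exact ⟨e, he, Nat.eq_of_beq_eq_true heq⟩

theorem card_mset2 {β : MulAut G} (hβ : IsBet β) :
    (mset (β * MulAut.conj (lp [0, 6]))).ncard = 72 := by
  rw [mset_eq A _ (fix2.map Prod.fst) ?_ ?_ fix2_nodup, List.length_map]
  · decide +kernel
  · intro q hq
    obtain ⟨e, he, rfl⟩ := List.mem_map.1 hq
    exact ⟨(fix2_mem A hβ he).1, (fix2_mem A hβ he).2.2⟩
  · intro q hq h
    obtain ⟨e, he, rfl⟩ := fix2_exists A hβ hq h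
    exact List.mem_map.2 ⟨e, he, rfl⟩

theorem bet_zero {β : MulAut G} (hβ : IsBet β) : β (T 0) = T 0 ∧ β (T 6) = T 6 ∧ Commute (T 0) (T 6) := by
  have h := bet_ab
  simp only [Bool.and_eq_true] at h
  refine ⟨?_, ?_, (fixN A (by norm_num) (by norm_num)).1 h.2⟩
  · rw [hβ 0 (by norm_num), Nat.eq_of_beq_eq_true h.1.1.1]
  · rw [hβ 6 (by norm_num), Nat.eq_of_beq_eq_true h.1.1.2]

/-- The fixed points of the second automorphism. -/
theorem fixed1_iff {β : MulAut G} (hβ : IsBet β) (g : G) :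
    (β * MulAut.conj (T 0)) g = g ↔ β g = g ∧ Commute g (T 0) := by
  rw [← lp_single]
  constructor
  · intro hg
    have hf := fix1_ok
    rw [Bool.and_eq_true] at hf
    have h0 : (β * MulAut.conj (lp [0])) (T 0) = T 0 := by
      rw [MulAut.mul_apply, MulAut.conj_apply, lp_single, mul_inv_cancel_right, (bet_zero A hβ).1]
    obtain ⟨r, hr, hrg⟩ := exists_pt A g (show (0 : Nat) < 3510 by norm_num)
    have hr1 : r ∈ fix1 := (fix1_mem A hβ).2 hr (by rw [← hrg, map_mul, map_mul, map_inv, hg, h0])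
    have hr0 : r = 0 := by
      rcases Bool.or_eq_true_iff.1 (List.all_eq_true.1 hf.2 r hr1) with h | h
      · exact Nat.eq_of_beq_eq_true h
      · exfalso
        obtain ⟨q, hq, hne⟩ := List.any_eq_true.1 h
        obtain ⟨hql, hqf, -⟩ := (fix1_mem A hβ).1 hq
        obtain ⟨s, hs, hsg⟩ := exists_pt A g⁻¹ hql
        have hs1 : s ∈ fix1 := (fix1_mem A hβ).2 hs (by
          rw [← hsg]; simp only [map_mul, map_inv, hg, hqf])
        have hc : fix r q = true := by
          rw [fixN A hr hql, ← hrg, show T q = g * T s * g⁻¹ by rw [← hsg]; group,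
            ← MulAut.conj_apply, ← MulAut.conj_apply, commute_conj_iff]
          exact (fixN A (by norm_num) hs).1 ((fix1_mem A hβ).1 hs1).2.2
        rw [hc] at hne
        exact Bool.noConfusion hne
    rw [hr0] at hrg
    have hc : Commute g (T 0) := mul_inv_eq_iff_eq_mul.1 hrg
    refine ⟨?_, hc⟩
    rw [MulAut.mul_apply, MulAut.conj_apply, lp_single, ← hc.eq, mul_inv_cancel_right] at hg
    exact hg
  · intro ⟨h1, h2⟩
    rw [MulAut.mul_apply, MulAut.conj_apply, ← h2.eq, mul_inv_cancel_right, h1]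

variable {Γ : Type*} [Group Γ] [Finite Γ] {D : Set Γ} (C : Ctx Γ D)
include C

/-- The centraliser of a member in the group of the three classes. -/
theorem exists_cen_iso {β : MulAut G} (hβ : IsBet β) :
    Nonempty (↥(O8S3 ⊓ Subgroup.centralizer ({T 0} : Set G)) ≃*
      Multiplicative (ZMod 2) × Cfsg.PSp 3 (ZMod 2)) := by
  classical
  obtain ⟨χ, hχ⟩ := M22O8.exists_iso A C
  have h0v : ((0, 17) : Nat × Nat) ∈ pv := M22O8.e8_mem M22O8.zero_e8
  have h0W := M22O8.pv_mem_W A h0v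
  obtain ⟨hz, hχ0⟩ := hχ (0, 17) h0v h0W
  have hva : vv 17 = va := by decide +kernel
  have hr : rO hz = rO va_ne := by congr 1
  have hW : ∀ g ∈ O8S3 ⊓ Subgroup.centralizer ({T 0} : Set G), g ∈ M22O8.W := fun g hg =>
    mem_W_of_class A C hβ ((fixed_iff A C hβ g).2 hg.1) ⟨(0, 17), h0v, by
      rw [Subgroup.mem_centralizer_singleton_iff.1 hg.2, mul_inv_cancel_right]⟩
  have hCa : ∀ x : ↥M22O8.W, χ x ∈ Ca ↔ (x : G) ∈ Subgroup.centralizer ({T 0} : Set G) := by
    intro x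
    rw [Ca, Subgroup.mem_centralizer_singleton_iff, Subgroup.mem_centralizer_singleton_iff, ← hr,
      ← hχ0, ← map_mul, ← map_mul, χ.injective.eq_iff, Subtype.ext_iff]
    rfl
  let f : ↥(O8S3 ⊓ Subgroup.centralizer ({T 0} : Set G)) →* ↥Ca :=
    (χ.toMonoidHom.comp (Subgroup.inclusion hW)).codRestrict Ca fun g => (hCa _).2 g.2.2
  have hf : Function.Bijective f := by
    refine ⟨fun g h e => ?_, fun y => ?_⟩
    · exact Subtype.ext (congrArg (fun x : ↥M22O8.W => (x : G)) (χ.injective (congrArg Subtype.val e)))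
    · refine ⟨⟨(χ.symm y.1 : ↥M22O8.W), M22O8.W_le A (χ.symm y.1).2,
        (hCa _).1 (by rw [χ.apply_symm_apply]; exact y.2)⟩, Subtype.ext ?_⟩
      exact χ.apply_symm_apply y.1
  obtain ⟨e⟩ := exists_Ca_iso
  exact ⟨(MulEquiv.ofBijective f hf).trans e⟩

end Cfsg.Agent.M22Outer
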