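import Cfsg.Agent.M22Outer.Minus

/-!
# The outer involutions of a group of type M(22)
-/

set_option autoImplicit false

namespace Cfsg.Agent.M22Outer

open Cfsg.Agent.CosetCert Cfsg.Agent.CosetCert.Fi22U62 Cfsg.Agent.Fi22Out Cfsg.Agent.M22Local
open Cfsg.Agent.Fi22Trans (G t)
open Cfsg.Agent.M22O8 (Ctx O8S3)
open Cfsg.Agent.Classical.Quad Cfsg.Agent.ThreeTrans.OrthCohom

/-- The statement about the outer involutions. -/
theorem main {Γ : Type*} [Group Γ] [Finite Γ] {D : Set Γ} (hD : IsThreeTranspositionGroup D)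
    (hprim : IsPrimitiveUnderConj D) (h22 : IsOfTypeM22 Γ D) :
    ∃ (s : MulAut Γ) (a b : Γ) (Cs : Subgroup Γ), orderOf s = 2 ∧
      s ∉ (MulAut.conj : Γ →* MulAut Γ).range ∧ (∀ g : Γ, g ∈ Cs ↔ s g = g) ∧
      Nonempty (↥Cs ≃* MulAut (Cfsg.Omega (ZMod 2) (Cfsg.quadFormPlus 4 (ZMod 2)))) ∧ a ∈ D ∧ b ∈ D ∧
      a ≠ b ∧ Commute a b ∧ s a = a ∧ s b = b ∧
      (∀ t : MulAut Γ, orderOf t = 2 → t ∉ (MulAut.conj : Γ →* MulAut Γ).range →
        (IsConj t s ∨ IsConj t (s * MulAut.conj a) ∨ IsConj t (s * MulAut.conj (a * b)))) ∧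
      ¬ IsConj s (s * MulAut.conj a) ∧ ¬ IsConj s (s * MulAut.conj (a * b)) ∧
      ¬ IsConj (s * MulAut.conj a) (s * MulAut.conj (a * b)) ∧
      (∀ g : Γ, (s * MulAut.conj a) g = g ↔ g ∈ Cs ⊓ Subgroup.centralizer ({a} : Set Γ)) ∧
      Nonempty (↥(Cs ⊓ Subgroup.centralizer ({a} : Set Γ)) ≃*
        Multiplicative (ZMod 2) × Cfsg.PSp 3 (ZMod 2)) ∧
      ∃ Csab O : Subgroup Γ, (∀ g : Γ, g ∈ Csab ↔ (s * MulAut.conj (a * b)) g = g) ∧
        O = (Cfsg.pCore 2 ↥Csab).map Csab.subtype ∧ Cfsg.IsElementaryAbelian 2 O ∧ Nat.card O = 64 ∧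
        ∃ _ : (O.subgroupOf Csab).Normal, Nonempty (↥Csab ⧸ O.subgroupOf Csab ≃*
          Cfsg.isometryGroup (ZMod 2) (Cfsg.quadFormMinus 2 (ZMod 2) 1 1)) := by
  classical
  obtain ⟨A⟩ := nonempty_act
  obtain ⟨C⟩ := M22O8.nonempty_ctx hD hprim h22
  obtain ⟨β, hβ⟩ := M22PairAut.exists_beta A
  have hβ' : IsBet β := hβ
  let Φ : MulAut G ≃* MulAut Γ := MulAut.congr C.e
  have hΦ : ∀ (τ : MulAut G) (x : G), Φ τ (C.e x) = C.e (τ x) := fun τ x => by
    show C.e (τ (C.e.symm (C.e x))) = _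
    rw [MulEquiv.symm_apply_apply]
  have hconj : ∀ u : G, Φ (MulAut.conj u) = MulAut.conj (C.e u) := fun u => MulEquiv.ext fun y => by
    obtain ⟨x, rfl⟩ := C.e.surjective y
    rw [hΦ, MulAut.conj_apply, MulAut.conj_apply, map_mul, map_mul, map_inv]
  have hrange : ∀ τ : MulAut G, Φ τ ∈ (MulAut.conj : Γ →* MulAut Γ).range →
      τ ∈ (MulAut.conj : G →* MulAut G).range := fun τ ⟨u, hu⟩ =>
    ⟨C.e.symm u, Φ.injective (by rw [hconj, C.e.apply_symm_apply, hu])⟩
  obtain ⟨hb0, hb6, h06⟩ := bet_zero A hβ'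
  have hab : lp [0, 6] = T 0 * T 6 := lp_pair 0 6
  have hout := bet_outer A C hβ'
  refine ⟨Φ β, C.M 0, C.M 6, O8S3.map C.e.toMonoidHom, ?_, fun h => hout (hrange β h), ?_, ?_,
    C.M_mem 0, C.M_mem 6, ?_, h06.map C.e, ?_, ?_, ?_, ?_, ?_, ?_, ?_, ?_, ?_⟩
  · rw [MulEquiv.orderOf_eq, orderOf_eq_prime_iff]
    exact ⟨by rw [pow_two]; exact bet_sq hβ', fun h => hout ⟨1, by rw [map_one, h]⟩⟩
  · intro g
    obtain ⟨x, rfl⟩ := C.e.surjective g
    rw [hΦ, C.e.injective.eq_iff, fixed_iff A C hβ']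
    exact Subgroup.mem_map_iff_mem C.e.injective
  · obtain ⟨e⟩ := M22O8.exists_mulAut_iso A C
    exact ⟨(Subgroup.equivMapOfInjective O8S3 C.e.toMonoidHom C.e.injective).symm.trans e⟩
  · exact fun h => absurd (M22O8.T_inj' A (by norm_num) (by norm_num) (C.e.injective h)) (by norm_num)
  · exact (hΦ β (T 0)).trans (congrArg C.e hb0)
  · exact (hΦ β (T 6)).trans (congrArg C.e hb6)
  · intro τ hτ hτout
    obtain ⟨τ, rfl⟩ := Φ.surjective τ
    rw [MulEquiv.orderOf_eq] at hτ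
    obtain ⟨r, hr, hc⟩ := classify A C hβ' hτ fun ⟨u, hu⟩ => hτout ⟨C.e u, by rw [← hconj, hu]⟩
    have h := Φ.toMonoidHom.map_isConj hc
    rw [map_mul] at h
    show IsConj (Φ τ) _ ∨ _
    interval_cases r
    · left
      simpa [rep3, lp_nil] using h
    · right; left
      simpa [rep3, lp_single, hconj, Ctx.M] using h
    · right; right
      simpa [rep3, hab, hconj, Ctx.M] using h
  · intro h
    have h1 := ncard_mset (Φ.symm.toMonoidHom.map_isConj h)
    simp only [MulEquiv.coe_toMonoidHom] at h1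
    rw [map_mul Φ.symm] at h1
    simp only [MulEquiv.symm_apply_apply] at h1
    rw [show Φ.symm (MulAut.conj (C.M 0)) = MulAut.conj (lp [0]) from
      Φ.injective (by rw [Φ.apply_symm_apply, hconj, lp_single]; rfl),
      card_mset0 A hβ', card_mset1 A hβ'] at h1
    omega
  · intro h
    have h1 := ncard_mset (Φ.symm.toMonoidHom.map_isConj h)
    simp only [MulEquiv.coe_toMonoidHom] at h1
    rw [map_mul Φ.symm] at h1
    simp only [MulEquiv.symm_apply_apply] at h1
    rw [show Φ.symm (MulAut.conj (C.M 0 * C.M 6)) = MulAut.conj (lp [0, 6]) from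
      Φ.injective (by rw [Φ.apply_symm_apply, hconj, hab, map_mul C.e]; rfl),
      card_mset0 A hβ', card_mset2 A hβ'] at h1
    omega
  · intro h
    have h1 := ncard_mset (Φ.symm.toMonoidHom.map_isConj h)
    simp only [MulEquiv.coe_toMonoidHom] at h1
    rw [map_mul Φ.symm, map_mul Φ.symm] at h1
    simp only [MulEquiv.symm_apply_apply] at h1
    rw [show Φ.symm (MulAut.conj (C.M 0)) = MulAut.conj (lp [0]) from
        Φ.injective (by rw [Φ.apply_symm_apply, hconj, lp_single]; rfl),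
      show Φ.symm (MulAut.conj (C.M 0 * C.M 6)) = MulAut.conj (lp [0, 6]) from
        Φ.injective (by rw [Φ.apply_symm_apply, hconj, hab, map_mul C.e]; rfl),
      card_mset1 A hβ', card_mset2 A hβ'] at h1
    omega
  · intro g
    obtain ⟨x, rfl⟩ := C.e.surjective g
    rw [Ctx.M, ← hconj, ← map_mul, hΦ, C.e.injective.eq_iff, fixed1_iff A hβ', Subgroup.mem_inf,
      Subgroup.mem_centralizer_singleton_iff, ← map_mul, ← map_mul, C.e.injective.eq_iff,
      fixed_iff A C hβ']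
    erw [Subgroup.mem_map_iff_mem C.e.injective]
    rfl
  · obtain ⟨e⟩ := exists_cen_iso A C hβ'
    have he : O8S3.map C.e.toMonoidHom ⊓ Subgroup.centralizer ({C.M 0} : Set Γ) =
        (O8S3 ⊓ Subgroup.centralizer ({T 0} : Set G)).map C.e.toMonoidHom := by
      ext g
      obtain ⟨x, rfl⟩ := C.e.surjective g
      rw [Subgroup.mem_inf, Subgroup.mem_centralizer_singleton_iff, Ctx.M, ← map_mul, ← map_mul,
        C.e.injective.eq_iff, ← Subgroup.mem_centralizer_singleton_iff]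
      erw [Subgroup.mem_map_iff_mem C.e.injective, Subgroup.mem_map_iff_mem C.e.injective]
      rfl
    exact ⟨(MulEquiv.subgroupCongr he).trans
      ((Subgroup.equivMapOfInjective _ C.e.toMonoidHom C.e.injective).symm.trans e)⟩
  · obtain ⟨hcore, hel, hcard⟩ := cab_structure A C hβ'
    let Csab := (Cab β).map C.e.toMonoidHom
    let eC : ↥(Cab β) ≃* ↥Csab := Subgroup.equivMapOfInjective _ C.e.toMonoidHom C.e.injective
    let O : Subgroup Γ := (Cfsg.pCore 2 ↥Csab).map Csab.subtype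
    have hO : O = ((actHom A hβ').ker.map (Cab β).subtype).map C.e.toMonoidHom := by
      show (Cfsg.pCore 2 ↥Csab).map Csab.subtype = _
      rw [← Core.map_pCore eC, hcore, Subgroup.map_map, Subgroup.map_map]
      congr 1
    have hOs : O.subgroupOf Csab = Cfsg.pCore 2 ↥Csab := by
      show ((Cfsg.pCore 2 ↥Csab).map Csab.subtype).comap Csab.subtype = _
      rw [Subgroup.comap_map_eq_self_of_injective Csab.subtype_injective]
    haveI : (O.subgroupOf Csab).Normal := by rw [hOs]; exact Core.pCore_normal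
    refine ⟨Csab, O, fun g => ?_, rfl, ?_, ?_, by rw [hOs]; exact Core.pCore_normal, ?_⟩
    · obtain ⟨x, rfl⟩ := C.e.surjective g
      rw [Ctx.M, Ctx.M, ← map_mul, ← hab, ← hconj, ← map_mul, hΦ, C.e.injective.eq_iff]
      exact Subgroup.mem_map_iff_mem C.e.injective
    · rw [hO]
      exact ⟨⟨⟨fun x y => by
        obtain ⟨_, ⟨u, hu, rfl⟩⟩ := x
        obtain ⟨_, ⟨v, hv, rfl⟩⟩ := y
        refine Subtype.ext ?_
        show C.e u * C.e v = C.e v * C.e u
        rw [← map_mul, ← map_mul]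
        exact congrArg C.e (congrArg Subtype.val (hel.1.1.comm ⟨u, hu⟩ ⟨v, hv⟩))⟩⟩,
        fun _ ⟨u, hu, hu'⟩ => by rw [← hu', ← map_pow, hel.2 u hu, map_one]⟩
    · rw [hO, Subgroup.card_map_of_injective C.e.injective,
        Subgroup.card_map_of_injective (Cab β).subtype_injective, hcard]
    · haveI : (Cfsg.pCore 2 ↥(Cab β)).Normal := Core.pCore_normal
      rw [← qM_coe]
      exact ⟨(QuotientGroup.quotientMulEquivOfEq hOs).trans
        (((QuotientGroup.congr _ _ eC (Core.map_pCore eC)).symm.trans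
          ((QuotientGroup.quotientMulEquivOfEq hcore).trans
            (QuotientGroup.quotientKerEquivOfSurjective _ (actHom_surjective A hβ')))).trans
          (oEquiv (qM 2)).symm)⟩

end Cfsg.Agent.M22Outer
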