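import Cfsg.Agent.M22Outer.Fixed
import Cfsg.Agent.ThreeTrans.OMinusSix
import Cfsg.Agent.ThreeTrans.PairFitting
import Cfsg.Agent.Core.PCore

/-!
# The fixed group of the third automorphism
-/

set_option autoImplicit false

namespace Cfsg.Agent.M22Outer

open Cfsg.Agent.CosetCert Cfsg.Agent.CosetCert.Fi22U62 Cfsg.Agent.Fi22Out Cfsg.Agent.M22Local
open Cfsg.Agent.Fi22Trans (G t)
open Cfsg.Agent.M22PairAut (bet sgp)
open Cfsg.Agent.M22O8 (Ctx img_lt T_inj' fixN exists_pt commute_conj_iff)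
open QuadraticMap Cfsg.Agent.Classical.Quad Cfsg.Agent.ThreeTrans.OrthCohom

/-- The space of dimension six with the elliptic form. -/
abbrev M6 : Type := (Fin 2 ⊕ Fin 2) ⊕ Fin 2 → ZMod 2

/-- The vector of a mask. -/
def vm (x : Nat) : M6 := dec (idxM 2) x

/-- Polarity of masks. -/
noncomputable def polM (x y : Nat) : Bool :=
  force (Nat.land x (Nat.add (Nat.add (Nat.mul (Nat.mod y 4) 4) (Nat.mod (Nat.div y 4) 4))
    (Nat.add (Nat.mul (Nat.mod (Nat.div y 16) 2) 32) (Nat.mul (Nat.div y 32) 16)))) M22O8.par8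

theorem polM_spec : ∀ x y : Fin 64, (polM x y = false ↔
    Cfsg.quadFormMinus 2 (ZMod 2) 1 1 (vm x + vm y) - Cfsg.quadFormMinus 2 (ZMod 2) 1 1 (vm x) -
      Cfsg.quadFormMinus 2 (ZMod 2) 1 1 (vm y) = 0) := by decide +kernel

theorem fix2_polar : (fix2.all fun p => fix2.all fun q => fix p.1 q.1 == !(polM p.2.2 q.2.2)) = true := by
  decide +kernel

theorem vm_norm : ∀ e ∈ fix2, Cfsg.quadFormMinus 2 (ZMod 2) 1 1 (vm e.2.2) = 1 := by decide +kernel

theorem vm_complete : ∀ x : Fin 64, Cfsg.quadFormMinus 2 (ZMod 2) 1 1 (vm x) = 1 →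
    (fix2.any fun e => Nat.beq e.2.2 x) = true := by decide +kernel

theorem vm_surj : ∀ v : M6, ∃ x : Fin 64, vm x = v := by decide +kernel

theorem vm_inj : ∀ x y : Fin 64, vm x = vm y → x = y := by decide +kernel

/-- The point of the six of a coordinate. -/
noncomputable def six6 (k : (Fin 2 ⊕ Fin 2) ⊕ Fin 2) : Nat × Nat × Nat :=
  (fix2.find? fun e => Nat.beq e.1 (six.getD (idxM 2 k) 0)).getD (0, 0, 0)

theorem six6_mem : ∀ k, six6 k ∈ fix2 := by decide +kernel

theorem six_span (i : (Fin 2 ⊕ Fin 2) ⊕ Fin 2) : Pi.single i (1 : ZMod 2) ∈ Submodule.span (ZMod 2)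
    (Set.range fun k => vm (six6 k).2.2) := by
  have h : ∀ i, ((sub6.getD (idxM 2 i) []).map fun k =>
      vm ((fix2.find? fun e => Nat.beq e.1 (six.getD k 0)).getD (0, 0, 0)).2.2).sum =
      Pi.single i (1 : ZMod 2) ∧ (sub6.getD (idxM 2 i) []).all (fun k => Nat.blt k 6) = true := by
    decide +kernel
  rw [← (h i).1]
  refine mem_span_list _ _ fun v hv => ?_
  obtain ⟨k, hk, rfl⟩ := List.mem_map.1 hv
  have hk6 : k < 6 := Nat.ble_eq.mp (List.all_eq_true.1 (h i).2 k hk)
  have hk' : ∀ k : Fin 6, ∃ j, idxM 2 j = k.val := by decide +kernel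
  obtain ⟨j, hj⟩ := hk' ⟨k, hk6⟩
  exact ⟨j, by simp only [six6, hj]⟩

theorem ext_M6 {f h : oG (qM 2)} (hfh : ∀ e ∈ fix2, f.1 (vm e.2.2) = h.1 (vm e.2.2)) : f = h := by
  refine ext_oG fun v => ?_
  have hs : ∀ v ∈ Set.range fun k => vm (six6 k).2.2, f.1.toLinearMap v = h.1.toLinearMap v := by
    rintro _ ⟨k, rfl⟩
    exact hfh _ (six6_mem k)
  refine LinearMap.eqOn_span hs (show v ∈ _ from ?_)
  have hv : v = ∑ i, v i • Pi.single i (1 : ZMod 2) := by
    funext j
    simp [Finset.sum_apply, Pi.single_apply]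
  rw [hv]
  exact Submodule.sum_mem _ fun i _ => Submodule.smul_mem _ _ (six_span i)

/-- The third automorphism. -/
noncomputable def third (β : MulAut G) : MulAut G := β * MulAut.conj (lp [0, 6])

/-- Its fixed group. -/
noncomputable def Cab (β : MulAut G) : Subgroup G :=
  (third β).toMonoidHom.eqLocus (MonoidHom.id G)

theorem mem_Cab {β : MulAut G} {g : G} : g ∈ Cab β ↔ third β g = g := Iff.rfl

variable (A : Act)
include A

theorem image_mem {β : MulAut G} (hβ : IsBet β) {g : G} (hg : g ∈ Cab β) {e : Nat × Nat × Nat}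
    (he : e ∈ fix2) : ∃ r ∈ fix2, g * T e.1 * g⁻¹ = T r.1 := by
  obtain ⟨r, hr, hrg⟩ := exists_pt A g (fix2_mem A hβ he).1
  have h : third β (T e.1) = T e.1 := (fix2_mem A hβ he).2.2
  obtain ⟨x, hx, rfl⟩ := fix2_exists A hβ hr (by
    show third β (T r) = T r
    rw [← hrg, map_mul, map_mul, map_inv, mem_Cab.1 hg, h])
  exact ⟨x, hx, hrg⟩

theorem fix2_fst {β : MulAut G} (hβ : IsBet β) {e f : Nat × Nat × Nat} (he : e ∈ fix2) (hf : f ∈ fix2)
    (h : T e.1 = T f.1) : e = f :=
  List.inj_on_of_nodup_map fix2_nodup he hf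
    (T_inj' A (fix2_mem A hβ he).1 (fix2_mem A hβ hf).1 h)

/-- The isometry of an element. -/
def Acts (g : G) (f : oG (qM 2)) : Prop :=
  ∀ e ∈ fix2, ∀ r ∈ fix2, g * T e.1 * g⁻¹ = T r.1 → f.1 (vm e.2.2) = vm r.2.2

theorem exists_acts {β : MulAut G} (hβ : IsBet β) {g : G} (hg : g ∈ Cab β) : ∃ f, Acts g f := by
  classical
  let π : Nat × Nat × Nat → Nat × Nat × Nat := fun e =>
    if h : ∃ r ∈ fix2, g * T e.1 * g⁻¹ = T r.1 then h.choose else e
  have hπ : ∀ e ∈ fix2, π e ∈ fix2 ∧ g * T e.1 * g⁻¹ = T (π e).1 := fun e he => by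
    simp only [π, dif_pos (image_mem A hβ hg he)]
    exact (image_mem A hβ hg he).choose_spec
  obtain ⟨f, hf⟩ := exists_isometry nondegM2 (· ∈ fix2) (fun e => vm e.2.2)
    (fun p q => fix p.1 q.1 = true) (fun e he => by rw [qM_coe]; exact vm_norm e he)
    (fun p q hp hq => by
      have h := List.all_eq_true.1 (List.all_eq_true.1 fix2_polar p hp) q hq
      rw [beq_iff_eq] at h
      rw [h, Bool.not_eq_true', polM_spec ⟨_, (fix2_mem A hβ hp).2.1⟩ ⟨_, (fix2_mem A hβ hq).2.1⟩,
        ← qM_coe]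
      rfl)
    six6 six6_mem six_span π (fun e he => (hπ e he).1) fun p q hp hq => by
      rw [fixN A (fix2_mem A hβ (hπ p hp).1).1 (fix2_mem A hβ (hπ q hq).1).1,
        fixN A (fix2_mem A hβ hp).1 (fix2_mem A hβ hq).1, ← (hπ p hp).2, ← (hπ q hq).2,
        ← MulAut.conj_apply, ← MulAut.conj_apply, commute_conj_iff]
  refine ⟨f, fun e he r hr h => ?_⟩
  rw [hf e he, fix2_fst A hβ (hπ e he).1 hr ((hπ e he).2.symm.trans h)]

theorem acts_unique {β : MulAut G} (hβ : IsBet β) {g : G} (hg : g ∈ Cab β) {f h : oG (qM 2)}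
    (hf : Acts g f) (hh : Acts g h) : f = h :=
  ext_M6 fun e he => by
    obtain ⟨r, hr, hrg⟩ := image_mem A hβ hg he
    rw [hf e he r hr hrg, hh e he r hr hrg]

/-- The action on the vectors. -/
noncomputable def actHom {β : MulAut G} (hβ : IsBet β) : ↥(Cab β) →* oG (qM 2) :=
  MonoidHom.mk' (fun g => (exists_acts A hβ g.2).choose) fun g h => by
    refine acts_unique A hβ (g * h).2 (exists_acts A hβ (g * h).2).choose_spec ?_
    intro e he r hr hrg
    obtain ⟨x, hx, hxh⟩ := image_mem A hβ h.2 he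
    rw [oG_mul_apply, (exists_acts A hβ h.2).choose_spec e he x hx hxh,
      (exists_acts A hβ g.2).choose_spec x hx r hr]
    rw [← hrg, ← hxh, Subgroup.coe_mul]
    group

theorem actHom_spec {β : MulAut G} (hβ : IsBet β) (g : ↥(Cab β)) : Acts (g : G) (actHom A hβ g) :=
  (exists_acts A hβ g.2).choose_spec

theorem fix2_cab {β : MulAut G} (hβ : IsBet β) {e : Nat × Nat × Nat} (he : e ∈ fix2) : T e.1 ∈ Cab β :=
  (fix2_mem A hβ he).2.2

theorem actHom_surjective {β : MulAut G} (hβ : IsBet β) : Function.Surjective (actHom A hβ) := by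
  rw [← MonoidHom.range_eq_top, ← top_le_iff, ← reflM2, Subgroup.closure_le]
  rintro _ ⟨v, hv, rfl⟩
  obtain ⟨x, rfl⟩ := vm_surj v
  obtain ⟨p, hp, hpx⟩ := List.any_eq_true.1 (vm_complete x (by
    rw [← qM_coe]; exact (ThreeTrans.OrthTwo.z2 _).resolve_left hv))
  refine ⟨⟨_, fix2_cab A hβ hp⟩, ext_M6 fun q hq => ?_⟩
  have hp' := fix2_mem A hβ hp
  have hq' := fix2_mem A hβ hq
  have h := List.all_eq_true.1 (List.all_eq_true.1 fix2_act p hp) q hq
  rw [force_eq] at h
  obtain ⟨r, hr, hrs⟩ := List.any_eq_true.1 h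
  rw [Bool.and_eq_true] at hrs
  have hQ : qM 2 (vm x) = 1 := (ThreeTrans.OrthTwo.z2 _).resolve_left hv
  rw [actHom_spec A hβ ⟨_, fix2_cab A hβ hp⟩ q hq r hr (by
      show T p.1 * T q.1 * (T p.1)⁻¹ = _
      rw [T_inv, M22O8.conjT1 A p.1 hq'.1, Nat.eq_of_beq_eq_true hrs.1]),
    Nat.eq_of_beq_eq_true hrs.2, rO_apply, hQ, div_one, ← Nat.eq_of_beq_eq_true hpx]
  have hpol := List.all_eq_true.1 (List.all_eq_true.1 fix2_polar p hp) q hq
  rw [beq_iff_eq] at hpol
  cases hf : fix p.1 q.1 with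
  | true =>
    rw [hf] at hpol
    have h0 := (polM_spec ⟨_, hp'.2.1⟩ ⟨_, hq'.2.1⟩).1 (by simpa using hpol.symm)
    rw [← qM_coe] at h0
    rw [cond_true, polar_comm, show polar (qM 2) (vm p.2.2) (vm q.2.2) = 0 from h0, zero_smul, sub_zero]
  | false =>
    rw [hf] at hpol
    have h0 := mt (polM_spec ⟨_, hp'.2.1⟩ ⟨_, hq'.2.1⟩).2 (by simpa using hpol.symm)
    rw [← qM_coe] at h0
    rw [cond_false, polar_comm, (ThreeTrans.OrthTwo.z2 (polar (qM 2) (vm p.2.2) (vm q.2.2))).resolve_left h0,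
      one_smul, sub_eq_add_neg,
      ZModModule.neg_eq_self, xr]
    exact dec_xor _ _ _

/-- The subgroup of the exchanges of partners. -/
noncomputable def Flips : Subgroup G := Subgroup.closure {x | ∃ z ∈ flips, x = lp z}

theorem flip_mem (b : Fin 6 → Bool) : lp (flip b) ∈ Flips := by
  have hlen : ∀ k : Fin 6, (k : Nat) < flips.length := by decide +kernel
  have h : ∀ l : List (Fin 6), lp (l.flatMap fun k => cond (b k) (flips.getD k []) []) ∈ Flips := by
    intro l
    induction l with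
    | nil => rw [List.flatMap_nil, lp_nil]; exact one_mem _
    | cons k l ih =>
      rw [List.flatMap_cons, lp_append]
      refine mul_mem ?_ ih
      cases b k with
      | true =>
        refine Subgroup.subset_closure ⟨_, ?_, rfl⟩
        rw [List.getD_eq_getElem _ _ (hlen k)]
        exact List.getElem_mem _
      | false => rw [cond_false, lp_nil]; exact one_mem _
  exact h _

theorem flips_comm : IsMulCommutative ↥Flips := by
  refine Subgroup.isMulCommutative_closure ?_
  rintro _ ⟨z, hz, rfl⟩ _ ⟨y, hy, rfl⟩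
  have h := flips_ok
  rw [Bool.and_eq_true] at h
  rw [← lp_append, ← lp_append]
  exact (eqW_iff A _ _).1 (List.all_eq_true.1 (List.all_eq_true.1 h.2 z hz) y hy)

theorem flips_sq {x : G} (hx : x ∈ Flips) : x * x = 1 := by
  haveI := flips_comm A
  induction hx using Subgroup.closure_induction with
  | mem x hx =>
    obtain ⟨z, hz, rfl⟩ := hx
    have h := flips_ok
    rw [Bool.and_eq_true] at h
    have h1 := List.all_eq_true.1 h.1 z hz
    simp only [Bool.and_eq_true] at h1
    rw [← lp_append]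
    exact (isOne_iff A _).1 h1.1.2
  | one => rw [mul_one]
  | mul x y hx hy ih1 ih2 =>
    have hc : x * y = y * x := congrArg Subtype.val (mul_comm' (⟨x, hx⟩ : ↥Flips) ⟨y, hy⟩)
    calc x * y * (x * y) = x * (y * x) * y := by group
      _ = x * x * (y * y) := by rw [← hc]; group
      _ = 1 := by rw [ih1, ih2, one_mul]
  | inv x _ ih => rw [← mul_inv_rev, ih, inv_one]

theorem flips_le {β : MulAut G} (hβ : IsBet β) : ∀ x ∈ Flips, ∃ h : x ∈ Cab β,
    actHom A hβ ⟨x, h⟩ = 1 := by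
  have hle : Flips ≤ ((actHom A hβ).ker).map (Cab β).subtype := by
    refine (Subgroup.closure_le _).2 ?_
    rintro _ ⟨z, hz, rfl⟩
    have h := flips_ok
    rw [Bool.and_eq_true] at h
    have h1 := List.all_eq_true.1 h.1 z hz
    simp only [Bool.and_eq_true, List.all_eq_true] at h1
    obtain ⟨⟨hmem, -⟩, htw⟩ := h1
    have hw : ∀ w : List Nat, (∀ q ∈ w, (fix2.any fun e => Nat.beq e.1 q) = true) → lp w ∈ Cab β := by
      intro w
      induction w with
      | nil => intro _; rw [lp_nil]; exact one_mem _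
      | cons a w ih =>
        intro hw
        rw [lp_cons]
        obtain ⟨e, he, heq⟩ := List.any_eq_true.1 (hw a List.mem_cons_self)
        rw [← Nat.eq_of_beq_eq_true heq]
        exact mul_mem (fix2_cab A hβ he) (ih fun x hx => hw x (List.mem_cons_of_mem _ hx))
    have hC : lp z ∈ Cab β := hw z hmem
    refine ⟨⟨_, hC⟩, MonoidHom.mem_ker.2 ?_, rfl⟩
    refine (inv_eq_one.1 ?_)
    rw [← map_inv]
    refine ext_M6 fun e he => ?_
    have h2 := htw e he
    rw [force_eq] at h2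
    have hel := fix2_mem A hβ he
    have hcj : (lp z)⁻¹ * T e.1 * (lp z)⁻¹⁻¹ = T (img z e.1) := by
      rw [inv_inv]; exact M22O8.conjT A z hel.1
    have hd := six_ok
    simp only [Bool.and_eq_true, List.all_eq_true] at hd
    obtain ⟨f, hf, hfe⟩ := List.any_eq_true.1 (hd.2 e he).2
    rw [Bool.and_eq_true] at hfe
    rw [oG_one_apply]
    rcases Bool.or_eq_true_iff.1 h2 with h3 | h3
    · rw [Nat.eq_of_beq_eq_true h3] at hcj
      exact actHom_spec A hβ (⟨_, hC⟩⁻¹ : ↥(Cab β)) e he e he hcj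
    · rw [Nat.eq_of_beq_eq_true h3, ← Nat.eq_of_beq_eq_true hfe.1] at hcj
      rw [actHom_spec A hβ (⟨_, hC⟩⁻¹ : ↥(Cab β)) e he f hf hcj, Nat.eq_of_beq_eq_true hfe.2]
  intro x hx
  obtain ⟨y, hy, rfl⟩ := hle hx
  exact ⟨y.2, hy⟩

theorem no_common {γ : Type*} [Group γ] [Finite γ] {D : Set γ} (C : Ctx γ D) {y : G}
    (h : ∀ e ∈ fix2, Commute y (T e.1)) (hy2 : y * y = 1) : y = 1 := by
  by_contra hy1
  obtain ⟨n, hn1, hn3, l, hl⟩ := ThreeTrans.involution_M22 C.grp C.typ (t := C.e y)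
    (by rw [← map_mul, hy2, map_one]) (by
      intro h1; exact hy1 (C.e.injective (h1.trans (map_one C.e).symm)))
  obtain ⟨hnd, hlen, hm, hco, hprod⟩ := hl
  have hT := C.grp.1
  have key : ∀ x ∈ l, ∀ e ∈ fix2, Commute (C.M e.1) x := by
    intro x hx e he
    have hcy : Commute (C.M e.1) l.prod := by rw [hprod]; exact ((h e he).symm).map C.e
    have hd := C.M_mem e.1
    match l, hlen, hnd, hm, hco with
    | [], hlen, _, _, _ => simp at hx
    | [a], _, _, _, _ => simp at hx hcy; rw [hx]; exact hcy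
    | [a, b], _, hnd, hm, hco =>
      simp at hnd
      have h2 := (ThreeTrans.commute_pair_iff hT (hm a (by simp)) (hm b (by simp)) hd
        (hco a (by simp) b (by simp)) hnd).1 (by simpa using hcy)
      simp at hx; rcases hx with rfl | rfl
      exacts [h2.1, h2.2]
    | [a, b, c], _, hnd, hm, hco =>
      simp at hnd
      have h2 := (ThreeTrans.commute_triple_iff hT (hm a (by simp)) (hm b (by simp)) (hm c (by simp))
        hd (hco a (by simp) b (by simp)) (hco a (by simp) c (by simp)) (hco b (by simp) c (by simp))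
        hnd.1.1 hnd.1.2 hnd.2).1 (by simpa [mul_assoc] using hcy)
      simp at hx; rcases hx with rfl | rfl | rfl
      exacts [h2.1, h2.2.1, h2.2.2]
    | _ :: _ :: _ :: _ :: _, hlen, _, _, _ => simp at hlen; omega
  have hne : l ≠ [] := fun h0 => by rw [h0] at hlen; simp at hlen; omega
  obtain ⟨q, hq⟩ := C.exists_point A (hm _ (List.head_mem hne))
  have hN := nocommon_ok
  simp only [Bool.and_eq_true] at hN
  have h6 := (allFrom_iff _ _ _).1 hN.2 q.val (Nat.zero_le _) (by rw [Nat.zero_add]; exact q.2)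
  have h7 : (noCommon.all fun p => fix p q.val) = true := by
    rw [List.all_eq_true]
    intro p hp
    obtain ⟨f, hf, hfp⟩ := List.any_eq_true.1 (List.all_eq_true.1 hN.1 p hp)
    obtain rfl := Nat.eq_of_beq_eq_true hfp
    have hlt : f.1 < 3510 := Nat.ble_eq.mp (by
      have := List.all_eq_true.1 fix2_ok f hf
      simp only [Bool.and_eq_true] at this
      exact this.1.1)
    rw [fixN A hlt q.2]
    have := key _ (List.head_mem hne) f hf
    rw [hq] at this
    exact C.commute_iff.1 this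
  rw [h7] at h6
  exact Bool.noConfusion h6

/-- An element centralising all members fixed by the third automorphism is trivial. -/
theorem cen_fix2 {γ : Type*} [Group γ] [Finite γ] {D : Set γ} (C : Ctx γ D) {y : G}
    (h : ∀ e ∈ fix2, Commute y (T e.1)) : y = 1 := by
  have hlt : ∀ e ∈ fix2, e.1 < 3510 := fun e he => by
    have := List.all_eq_true.1 fix2_ok e he
    simp only [Bool.and_eq_true] at this
    exact Nat.ble_eq.mp this.1.1
  refine no_common A C h (eq_one_of_fix A fun x hx => ?_)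
  rw [conj_point A]
  rcases Bool.or_eq_true_iff.1 (List.all_eq_true.1 gen_cover x hx) with h1 | h1
  · obtain ⟨e, he, hex⟩ := List.any_eq_true.1 h1
    rw [← Nat.eq_of_beq_eq_true hex]
    exact mul_inv_eq_iff_eq_mul.2 ((h e he).mul_left (h e he)).eq
  obtain ⟨s, hs, hsx⟩ := List.any_eq_true.1 h1
  have hS := List.all_eq_true.1 sep_ok s hs
  simp only [Bool.and_eq_true, List.all_eq_true] at hS
  obtain ⟨⟨hin, hall⟩, hsame⟩ := hS
  have hx' := Nat.eq_of_beq_eq_true hsx
  -- the pair is stable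
  have hpair : ∀ q, q < 3510 → (∀ p ∈ s.2.2, fix p q = fix p s.1) →
      y * T q * y⁻¹ = T s.1 ∨ y * T q * y⁻¹ = T s.2.1 := by
    intro q hq hpat
    obtain ⟨r, hr, hrg⟩ := exists_pt A y hq
    have h2 := (allFrom_iff _ _ _).1 hall r (Nat.zero_le _) (by omega)
    have h3 : (s.2.2.all fun p => fix p r == fix p s.1) = true := by
      rw [List.all_eq_true]
      intro p hp
      obtain ⟨f, hf, hfp⟩ := List.any_eq_true.1 (hin p hp)
      obtain rfl := Nat.eq_of_beq_eq_true hfp
      rw [beq_iff_eq, ← hpat f.1 hp, Bool.eq_iff_iff, fixN A (hlt f hf) hr, fixN A (hlt f hf) hq,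
        ← hrg]
      have hc : y * T f.1 * y⁻¹ = T f.1 := by rw [(h f hf).eq, mul_inv_cancel_right]
      conv_lhs => rw [← hc]
      exact commute_conj_iff y
    simp only [h3, Bool.not_true, Bool.false_or, Bool.or_eq_true] at h2
    rcases h2 with h2 | h2 <;> rw [hrg, Nat.eq_of_beq_eq_true h2]
    · exact Or.inl rfl
    · exact Or.inr rfl
  have hb : s.2.1 < 3510 := by
    have hall : (sep.all fun e => Nat.blt e.2.1 3510) = true := by decide +kernel
    exact Nat.ble_eq.mp (List.all_eq_true.1 hall s hs)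
  have hxl : s.1 < 3510 := hx' ▸ x.2
  rw [← hx']
  have e1 : ∀ q, y * y * q * (y * y)⁻¹ = y * (y * q * y⁻¹) * y⁻¹ := fun q => by group
  rw [e1]
  rcases hpair s.1 hxl (fun _ _ => rfl) with h2 | h2
  · rw [h2, h2]
  · rw [h2]
    rcases hpair s.2.1 hb (fun p hp => beq_iff_eq.1 (hsame p hp)) with h3 | h3
    · exact h3
    · have h4 : T s.1 = T s.2.1 := mul_left_cancel (mul_right_cancel (h2.trans h3.symm))
      rw [h3, h4]

theorem ker_eq {γ : Type*} [Group γ] [Finite γ] {D : Set γ} (C : Ctx γ D) {β : MulAut G}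
    (hβ : IsBet β) (g : ↥(Cab β)) (hg : actHom A hβ g = 1) : ∃ b, (g : G) = lp (flip b) := by
  classical
  have hd := six_ok
  simp only [Bool.and_eq_true, List.all_eq_true] at hd
  obtain ⟨⟨⟨hsix, htree⟩, hcov⟩, htw⟩ := hd
  -- an element of the kernel maps a point to itself or its partner
  have hpair : ∀ x : ↥(Cab β), actHom A hβ x = 1 → ∀ e ∈ fix2,
      (x : G) * T e.1 * (x : G)⁻¹ = T e.1 ∨ (x : G) * T e.1 * (x : G)⁻¹ = T e.2.1 := by
    intro x hx e he
    obtain ⟨r, hr, hrg⟩ := image_mem A hβ x.2 he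
    have h1 := actHom_spec A hβ x e he r hr hrg
    rw [hx, oG_one_apply] at h1
    have h2 := List.all_eq_true.1 (List.all_eq_true.1 fix2_pairs e he) r hr
    have h3 := vm_inj ⟨_, (fix2_mem A hβ he).2.1⟩ ⟨_, (fix2_mem A hβ hr).2.1⟩ h1
    rw [Fin.ext_iff] at h3
    simp only [show e.2.2 = r.2.2 from h3, Nat.beq_refl, Bool.not_true, Bool.false_or,
      Bool.or_eq_true] at h2
    rcases h2 with h2 | h2
    · exact Or.inl (by rw [hrg, Nat.eq_of_beq_eq_true h2])
    · exact Or.inr (by rw [hrg, Nat.eq_of_beq_eq_true h2])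
  let b : Fin 6 → Bool := fun k => decide ((g : G) * T (six.getD k 0) * (g : G)⁻¹ ≠ T (six.getD k 0))
  refine ⟨b, ?_⟩
  obtain ⟨hwC, hw1⟩ := flips_le A hβ _ (flip_mem A b)
  set y : ↥(Cab β) := ⟨_, hwC⟩ * g
  have hy : actHom A hβ y = 1 := by rw [map_mul, hw1, hg, one_mul]
  have hsixfix : ∀ k ∈ six, T k ∈ Subgroup.centralizer ({(y : G)} : Set G) := by
    intro k hk
    obtain ⟨i, hi, rfl⟩ := List.mem_iff_getElem.1 hk
    have hi6 : i < 6 := by
      have hl : six.length = 6 := by decide +kernel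
      omega
    obtain ⟨e, he, heq⟩ := List.any_eq_true.1 (hsix _ (List.getElem_mem hi))
    have he1 : e.1 = six.getD i 0 := by
      rw [List.getD_eq_getElem _ _ hi]; exact Nat.eq_of_beq_eq_true heq
    rw [show six[i] = e.1 from (Nat.eq_of_beq_eq_true heq).symm]
    have hl := (fix2_mem A hβ he).1
    have hpat := List.all_eq_true.1 (flip_pattern b ⟨i, hi6⟩) e he
    rw [show six.getD (↑(⟨i, hi6⟩ : Fin 6) : Nat) 0 = e.1 from he1.symm, Nat.beq_refl,
      Bool.not_true, Bool.false_or] at hpat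
    have h2 : (lp (flip b))⁻¹ * T e.1 * lp (flip b) = T (cond (b ⟨i, hi6⟩) e.2.1 e.1) := by
      rw [M22O8.conjT A _ hl, Nat.eq_of_beq_eq_true hpat]
    have h3 : (g : G) * T e.1 * (g : G)⁻¹ = T (cond (b ⟨i, hi6⟩) e.2.1 e.1) := by
      rcases hb : b ⟨i, hi6⟩ with _ | _
      · simp only [b, decide_eq_false_iff_not, not_not, ← he1] at hb
        exact hb
      · simp only [b, decide_eq_true_eq, ← he1] at hb
        exact (hpair g hg e he).resolve_left hb
    rw [Subgroup.mem_centralizer_singleton_iff]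
    refine (mul_inv_eq_iff_eq_mul.1 ?_).symm
    show lp (flip b) * (g : G) * T e.1 * (lp (flip b) * (g : G))⁻¹ = T e.1
    calc lp (flip b) * (g : G) * T e.1 * (lp (flip b) * (g : G))⁻¹
        = lp (flip b) * ((g : G) * T e.1 * (g : G)⁻¹) * (lp (flip b))⁻¹ := by group
      _ = T e.1 := by rw [h3, ← h2]; group
  have htreefix : ∀ x ∈ tree2, T x.1 ∈ Subgroup.centralizer ({(y : G)} : Set G) := by
    refine M22O8.mem_of_tree A _ tree2 six ?_ hsixfix (by decide +kernel)
    intro x hx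
    obtain ⟨h1, h2⟩ := htree x hx
    have hlt : (tree2.all fun x => Nat.blt x.2.1 3510) = true := by decide +kernel
    obtain ⟨p, hp, hpx⟩ := List.any_eq_true.1 h2
    exact ⟨Nat.eq_of_beq_eq_true h1, Nat.ble_eq.mp (List.all_eq_true.1 hlt x hx),
      Nat.eq_of_beq_eq_true hpx ▸ hsixfix p hp⟩
  have hall : ∀ e ∈ fix2, Commute (y : G) (T e.1) := by
    intro e he
    obtain ⟨⟨hne, htwin⟩, hcv⟩ : ((!Nat.beq e.1 e.2.1) = true ∧
        (fix2.any fun f => Nat.beq f.1 e.2.1 && Nat.beq f.2.2 e.2.2) = true) ∧ _ := ⟨htw e he, hcov e he⟩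
    have hc : ∀ {q}, T q ∈ Subgroup.centralizer ({(y : G)} : Set G) → Commute (y : G) (T q) :=
      fun h => (Subgroup.mem_centralizer_singleton_iff.1 h).symm
    have hor : Commute (y : G) (T e.1) ∨ Commute (y : G) (T e.2.1) := by
      rcases Bool.or_eq_true_iff.1 hcv with h | h
      · obtain ⟨p, hp, h⟩ := List.any_eq_true.1 h
        rcases Bool.or_eq_true_iff.1 h with h | h
        · exact Or.inl (hc (Nat.eq_of_beq_eq_true h ▸ hsixfix p hp))
        · exact Or.inr (hc (Nat.eq_of_beq_eq_true h ▸ hsixfix p hp))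
      · obtain ⟨x, hx, h⟩ := List.any_eq_true.1 h
        rcases Bool.or_eq_true_iff.1 h with h | h
        · exact Or.inl (hc (Nat.eq_of_beq_eq_true h ▸ htreefix x hx))
        · exact Or.inr (hc (Nat.eq_of_beq_eq_true h ▸ htreefix x hx))
    rcases hor with h | h
    · exact h
    · rcases hpair y hy e he with h1 | h1
      · exact mul_inv_eq_iff_eq_mul.1 h1
      · exfalso
        have h2 : T e.1 = T e.2.1 := mul_left_cancel (mul_right_cancel
          (h1.trans ((by rw [h.eq, mul_inv_cancel_right] :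
            (y : G) * T e.2.1 * (y : G)⁻¹ = T e.2.1)).symm))
        obtain ⟨f, hf, hfe⟩ := List.any_eq_true.1 htwin
        rw [Bool.and_eq_true] at hfe
        rw [T_inj' A (fix2_mem A hβ he).1 (Nat.eq_of_beq_eq_true hfe.1 ▸ (fix2_mem A hβ hf).1) h2,
          Nat.beq_refl] at hne
        exact Bool.noConfusion hne
  have h1 : lp (flip b) * (g : G) = 1 := cen_fix2 A C hall
  rw [← inv_eq_of_mul_eq_one_right h1]
  exact inv_eq_of_mul_eq_one_right (flips_sq A (flip_mem A b))

/-- The structure of the fixed group of the third automorphism. -/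
theorem cab_structure {γ : Type*} [Group γ] [Finite γ] {D : Set γ} (C : Ctx γ D) {β : MulAut G}
    (hβ : IsBet β) :
    Cfsg.pCore 2 ↥(Cab β) = (actHom A hβ).ker ∧ IsElementaryAbelian 2 ((actHom A hβ).ker.map (Cab β).subtype)
      ∧ Nat.card (actHom A hβ).ker = 64 := by
  classical
  haveI : Finite G := finite_G A
  have hmapF : ∀ b, (⟨lp (flip b), (flips_le A hβ _ (flip_mem A b)).1⟩ : ↥(Cab β)) ∈ (actHom A hβ).ker :=
    fun b => (flips_le A hβ _ (flip_mem A b)).2
  let f : (Fin 6 → Bool) → ↥(actHom A hβ).ker := fun b => ⟨_, hmapF b⟩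
  have hf : Function.Bijective f := by
    refine ⟨fun b b' h => funext fun k => ?_, fun x => ?_⟩
    · have he : lp (flip b) = lp (flip b') := congrArg (fun x : ↥(actHom A hβ).ker => ((x : ↥(Cab β)) : G)) h
      obtain ⟨e, he', hek⟩ := List.any_eq_true.1 ((by decide +kernel :
        ∀ k : Fin 6, (fix2.any fun e => Nat.beq e.1 (six.getD k 0) && !(Nat.beq e.1 e.2.1)) = true) k)
      rw [Bool.and_eq_true] at hek
      have hl := (fix2_mem A hβ he').1
      have h1 := List.all_eq_true.1 (flip_pattern b k) e he'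
      have h2 := List.all_eq_true.1 (flip_pattern b' k) e he'
      rw [hek.1, Bool.not_true, Bool.false_or] at h1 h2
      have himg : img (flip b) e.1 = img (flip b') e.1 := T_inj' A (img_lt A _ hl) (img_lt A _ hl) (by
        rw [← M22O8.conjT A _ hl, ← M22O8.conjT A _ hl, he])
      rw [Nat.eq_of_beq_eq_true h1, Nat.eq_of_beq_eq_true h2] at himg
      rcases hb : b k with _ | _ <;> rcases hb' : b' k with _ | _ <;>
        simp only [hb, hb', cond_true, cond_false] at himg ⊢
      · rw [← himg, Nat.beq_refl] at hek; exact Bool.noConfusion hek.2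
      · rw [himg, Nat.beq_refl] at hek; exact Bool.noConfusion hek.2
    · obtain ⟨b, hb⟩ := ker_eq A C hβ x.1 x.2
      exact ⟨b, Subtype.ext (Subtype.ext hb.symm)⟩
  have hcard : Nat.card (actHom A hβ).ker = 64 := by
    rw [← Nat.card_congr (Equiv.ofBijective f hf)]
    simp
  refine ⟨?_, ⟨?_, ?_⟩, hcard⟩
  · haveI : Finite (oG (qM 2)) := Classical.Exc.oG_finite _
    refine le_antisymm ?_ (Core.le_pCore (IsPGroup.of_card (n := 6) (by rw [hcard]; norm_num)))
    obtain ⟨F, hFld, hFt, hF⟩ : ∃ (F : Type) (_ : Field F) (_ : Fintype F), Fintype.card F = 4 :=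
      ⟨GaloisField 2 2, inferInstance, Fintype.ofFinite _, by
        rw [← @Nat.card_eq_fintype_card _ (Fintype.ofFinite _), GaloisField.card 2 2 (by norm_num)]; rfl⟩
    obtain ⟨e⟩ := ThreeTrans.mulAut_psu_four_equiv hF
    haveI : IsSimpleGroup (PSU 4 F 2) := Cfsg.Agent.S0283.result
      (by rw [hF]; norm_num : Fintype.card F = 2 ^ 2) 4 (by norm_num) (by norm_num)
    rw [← qM_coe] at e
    let π : ↥(Cab β) →* MulAut (PSU 4 F 2) :=
      ((oEquiv (qM 2)).symm.trans e.symm).toMonoidHom.comp (actHom A hβ)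
    have hπ : Function.Surjective π :=
      ((oEquiv (qM 2)).symm.trans e.symm).surjective.comp (actHom_surjective A hβ)
    haveI := (Core.pCore_normal (p := 2) (G := ↥(Cab β))).map π hπ
    intro x hx
    rcases ThreeTrans.normal_mulAut_cases (ThreeTrans.center_psu_four hF)
      ((Cfsg.pCore 2 ↥(Cab β)).map π) with h | h
    · have hx' : π x ∈ (Cfsg.pCore 2 ↥(Cab β)).map π := Subgroup.mem_map_of_mem π hx
      rw [h, Subgroup.mem_bot] at hx'
      exact MonoidHom.mem_ker.2 (((oEquiv (qM 2)).symm.trans e.symm).injective (hx'.trans (map_one _).symm))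
    · exfalso
      have hp : IsPGroup 2 ↥((MulAut.conj : PSU 4 F 2 →* MulAut (PSU 4 F 2)).range) :=
        ((Core.pCore_isPGroup (p := 2)).map π).to_le h
      haveI : Fact (Nat.Prime 2) := ⟨Nat.prime_two⟩
      have hinj : Function.Injective (MulAut.conj : PSU 4 F 2 →* MulAut (PSU 4 F 2)) := by
        refine (injective_iff_map_eq_one _).2 fun s hs =>
          Subgroup.mem_bot.1 (ThreeTrans.center_psu_four hF ▸ ?_)
        exact Subgroup.mem_center_iff.2 fun t =>
          (mul_inv_eq_iff_eq_mul.1 (DFunLike.congr_fun hs t : s * t * s⁻¹ = t)).symm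
      haveI : Finite (PSU 4 F 2) := Nat.finite_of_card_ne_zero (by
        rw [ThreeTrans.card_psu_four hF]; norm_num)
      obtain ⟨n, hn⟩ := IsPGroup.iff_card.1 hp
      rw [← Nat.card_congr (MonoidHom.ofInjective hinj).toEquiv, ThreeTrans.card_psu_four hF] at hn
      have h3 : 3 ∣ 2 ^ n := hn ▸ (by norm_num : (3 : ℕ) ∣ 25920)
      have := Nat.prime_three.dvd_of_dvd_pow h3
      norm_num at this
  · have h : (actHom A hβ).ker.map (Cab β).subtype ≤ Flips := by
      rintro _ ⟨x, hx, rfl⟩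
      obtain ⟨b, hb⟩ := ker_eq A C hβ x hx
      show (x : G) ∈ Flips
      rw [hb]
      exact flip_mem A b
    haveI := flips_comm A
    exact ⟨⟨fun x y => Subtype.ext (congrArg Subtype.val
      (mul_comm' (⟨x.1, h x.2⟩ : ↥Flips) ⟨y.1, h y.2⟩) : (x : G) * y = y * x)⟩⟩
  · rintro _ ⟨x, hx, rfl⟩
    obtain ⟨b, hb⟩ := ker_eq A C hβ x hx
    show (x : G) ^ 2 = 1
    rw [hb, pow_two]
    exact flips_sq A (flip_mem A b)

end Cfsg.Agent.M22Outer
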